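import Cfsg.Agent.H533.Wf.Count
import Cfsg.Agent.H533.T5.Weak
import Cfsg.Prelude.Def_Classification2

/-!
# S3826: rows when all automorphisms of order `p` are inner

* `IRow p K` : there is no `Cfg p ⊤ C D` in `K` itself; `ARow.of_inner`;
* `ARow.of_wrow` : the weak rows are sufficient;
* `Cfg.false_of_card` : two classes, `|C(x)| |C(y)| |P| ≤ 4 |K|`;
* `Cfg.false_of_classes` : all pairs of classes;
* `SporThree` : the sporadic rows for `p = 3`.
-/

set_option autoImplicit false
set_option linter.unusedSectionVars false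

namespace Cfsg.Agent.H533.Wf

universe u v

open Subgroup Cfsg Cfsg.Agent.H533.T5 MulAction

/-- The weak rows are sufficient. -/
theorem ARow.of_wrow {p : ℕ} {K : Type v} [Group K] (hK : WRow p K) : ARow p K := by
  intro Γ C D h
  obtain ⟨c, hc⟩ := h.neC
  obtain ⟨d, hd⟩ := h.neD
  obtain ⟨g, hg, hn⟩ := hK c d (h.ordC c hc) (h.ordD d hd)
  exact hn (h.pair c hc _ (h.conjD g (h.inn hg) d hd))

/-- The row inside `K`: the pairs of elements of `K`. -/
def IRow (p : ℕ) (K : Type v) [Group K] : Prop :=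
  ∀ C D : Set K, Cfg p (⊤ : Subgroup K) C D → False

/-- the configuration in `K` -/
theorem ACfg.inner {p : ℕ} {K : Type v} [Group K] [Finite K] {Γ : Subgroup (MulAut K)}
    {C D : Set (MulAut K)} (h : ACfg p Γ C D)
    (hC : ∀ c ∈ C, c ∈ (MulAut.conj : K →* MulAut K).range)
    (hD : ∀ d ∈ D, d ∈ (MulAut.conj : K →* MulAut K).range) :
    Cfg p (⊤ : Subgroup K) {x : K | MulAut.conj x ∈ C} {x : K | MulAut.conj x ∈ D} := by
  have hs := h.simple
  have hinj := h.conj_injective
  have hcl : ∀ c d : K, (Subgroup.closure ({c, d} : Set K)).map (MulAut.conj : K →* MulAut K) =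
      Subgroup.closure ({MulAut.conj c, MulAut.conj d} : Set (MulAut K)) := by
    intro c d
    rw [MonoidHom.map_closure, Set.image_pair]
  have hconj : ∀ g x : K, MulAut.conj (g * x * g⁻¹) = MulAut.conj g * MulAut.conj x *
      (MulAut.conj g)⁻¹ := by
    intro g x; rw [map_mul, map_mul, map_inv]
  exact
    { conjC := fun g c hc => by
        show MulAut.conj (g * c * g⁻¹) ∈ C
        rw [hconj]; exact h.conjC _ (h.inn ⟨g, rfl⟩) _ hc
      conjD := fun g c hc => by
        show MulAut.conj (g * c * g⁻¹) ∈ D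
        rw [hconj]; exact h.conjD _ (h.inn ⟨g, rfl⟩) _ hc
      pair := fun c hc d hd => by
        have h1 := h.pair _ hc _ hd
        rw [← hcl] at h1
        exact h1.of_injective ((MulAut.conj : K →* MulAut K).subgroupMap
          (Subgroup.closure ({c, d} : Set K))) (fun x y hxy => by
            apply Subtype.ext
            exact hinj (congrArg (fun z => (z.1 : MulAut K)) hxy))
      free := fun c hc d hd => by
        have h1 := h.free _ hc _ hd
        rw [← hcl] at h1
        exact h1.of_injective ((MulAut.conj : K →* MulAut K).subgroupMap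
          (Subgroup.closure ({c, d} : Set K))) (fun x y hxy => by
            apply Subtype.ext
            exact hinj (congrArg (fun z => (z.1 : MulAut K)) hxy))
      ordC := fun c hc => by rw [← orderOf_injective _ hinj]; exact h.ordC _ hc
      ordD := fun c hc => by rw [← orderOf_injective _ hinj]; exact h.ordD _ hc
      neC := by
        obtain ⟨c, hc⟩ := h.neC
        obtain ⟨x, rfl⟩ := hC c hc
        exact ⟨x, hc⟩
      neD := by
        obtain ⟨c, hc⟩ := h.neD
        obtain ⟨x, rfl⟩ := hD c hc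
        exact ⟨x, hc⟩
      normal := inferInstance
      simple := (Subgroup.topEquiv : (⊤ : Subgroup K) ≃* K).isSimpleGroup
      nc := by
        intro hc
        apply h.nc
        refine ⟨⟨fun a b => ?_⟩⟩
        exact congrArg Subtype.val (hc.is_comm.comm (⟨a, Subgroup.mem_top a⟩ : (⊤ : Subgroup K))
          ⟨b, Subgroup.mem_top b⟩)
      dvd := by rw [Subgroup.card_top]; exact h.dvd
      cent := by
        rw [Subgroup.coe_top, Subgroup.centralizer_univ]
        exact h.center_eq_bot
      ih := fun X _ _ hX => h.ih X (lt_of_lt_of_le hX (by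
        exact Nat.card_le_card_of_injective h.inc h.inc_injective)) }

theorem ARow.of_inner {p : ℕ} {K : Type v} [Group K] [Finite K]
    (hout : ∀ a : MulAut K, orderOf a = p → a ∈ (MulAut.conj : K →* MulAut K).range)
    (h : IRow p K) : ARow p K := by
  intro Γ C D hcfg
  exact h _ _ (hcfg.inner (fun c hc => hout c (hcfg.ordC c hc)) (fun d hd => hout d (hcfg.ordD d hd)))

section kills

variable {p : ℕ} {K : Type v} [Group K] [Finite K] {C D : Set K}

/-- Counting. -/
theorem Cfg.false_of_card [hp : Fact p.Prime] (h : Cfg p (⊤ : Subgroup K) C D) {x y : K}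
    (hx : x ∈ C) (hy : y ∈ D)
    (hle : Nat.card (Subgroup.centralizer ({x} : Set K)) *
      Nat.card (Subgroup.centralizer ({y} : Set K)) * p ^ (Nat.card K).factorization p ≤
        4 * Nat.card K) : False := by
  by_cases hxy : IsConj x y
  · exact h.false_of_isConj hx hy (i := 1) (j := 1) (by rw [pow_one, pow_one]; exact hxy.symm)
      (by rw [pow_one]; exact h.ne_one hx)
  · have P : Sylow p K := default
    have hP : Nat.card P = p ^ (Nat.card K).factorization p := P.card_eq_multiplicity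
    exact h.toHyp.false_of_wpair hx hy (wpair_of_card P hxy (h.ne_one hx) (h.symm.ne_one hy)
      (by rw [hP]; exact hle))

/-- A proper subgroup of index prime to `p` with `O_p = 1` in which (some) two elements of order `p`
do not commute. -/
theorem Cfg.false_of_mem {S : Subgroup K} [hp : Fact p.Prime] (h : Cfg p S C D) {H L : Subgroup K}
    (hLH : L ≤ H) (hH : H ≠ ⊤) (hHL : H ≤ Subgroup.normalizer (L : Set K)) (hL : QS L) {x y g k : K}
    (hx : x ∈ C) (hy : y ∈ D) (hxH : g * x * g⁻¹ ∈ H) (hyH : k * y * k⁻¹ ∈ H)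
    (hxL : g * x * g⁻¹ ∉ Subgroup.centralizer (L : Set K))
    (hyL : k * y * k⁻¹ ∉ Subgroup.centralizer (L : Set K)) : False :=
  h.false_of_normal hH hLH hHL hL (h.conjC g x hx) (h.conjD k y hy) hxH hyH hxL hyL

end kills

/-- The sporadic rows for `p = 3`. -/
structure SporThree : Prop where
  m11 : ∀ (K : Type u) [Group K] [Finite K] [IsSimpleGroup K], Spor.IsoM11 K → ARow 3 K
  m12 : ∀ (K : Type u) [Group K] [Finite K] [IsSimpleGroup K], Spor.IsoM12 K → ARow 3 K
  m22 : ∀ (K : Type u) [Group K] [Finite K] [IsSimpleGroup K], Spor.IsoM22 K → ARow 3 K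
  m23 : ∀ (K : Type u) [Group K] [Finite K] [IsSimpleGroup K], Spor.IsoM23 K → ARow 3 K
  m24 : ∀ (K : Type u) [Group K] [Finite K] [IsSimpleGroup K], Spor.IsoM24 K → ARow 3 K
  j1 : ∀ (K : Type u) [Group K] [Finite K] [IsSimpleGroup K], Spor.IsoJ1 K → ARow 3 K
  j2 : ∀ (K : Type u) [Group K] [Finite K] [IsSimpleGroup K], Spor.IsoJ2 K → ARow 3 K
  j3 : ∀ (K : Type u) [Group K] [Finite K] [IsSimpleGroup K], Spor.IsoJ3 K → ARow 3 K
  j4 : ∀ (K : Type u) [Group K] [Finite K] [IsSimpleGroup K], Spor.IsoJ4 K → ARow 3 K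
  hs : ∀ (K : Type u) [Group K] [Finite K] [IsSimpleGroup K], Spor.IsoHS K → ARow 3 K
  mcl : ∀ (K : Type u) [Group K] [Finite K] [IsSimpleGroup K], Spor.IsoMcL K → ARow 3 K
  suz : ∀ (K : Type u) [Group K] [Finite K] [IsSimpleGroup K], Spor.IsoSuz K → ARow 3 K
  he : ∀ (K : Type u) [Group K] [Finite K] [IsSimpleGroup K], Spor.IsoHe K → ARow 3 K
  ru : ∀ (K : Type u) [Group K] [Finite K] [IsSimpleGroup K], Spor.IsoRu K → ARow 3 K
  on : ∀ (K : Type u) [Group K] [Finite K] [IsSimpleGroup K], Spor.IsoON K → ARow 3 K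
  co1 : ∀ (K : Type u) [Group K] [Finite K] [IsSimpleGroup K], Spor.IsoCo1 K → ARow 3 K
  co2 : ∀ (K : Type u) [Group K] [Finite K] [IsSimpleGroup K], Spor.IsoCo2 K → ARow 3 K
  co3 : ∀ (K : Type u) [Group K] [Finite K] [IsSimpleGroup K], Spor.IsoCo3 K → ARow 3 K
  fi22 : ∀ (K : Type u) [Group K] [Finite K] [IsSimpleGroup K], Spor.IsoFi22 K → ARow 3 K
  fi23 : ∀ (K : Type u) [Group K] [Finite K] [IsSimpleGroup K], Spor.IsoFi23 K → ARow 3 K
  fi24 : ∀ (K : Type u) [Group K] [Finite K] [IsSimpleGroup K], Spor.IsoFi24' K → ARow 3 K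
  hn : ∀ (K : Type u) [Group K] [Finite K] [IsSimpleGroup K], Spor.IsoHN K → ARow 3 K
  ly : ∀ (K : Type u) [Group K] [Finite K] [IsSimpleGroup K], Spor.IsoLy K → ARow 3 K
  th : ∀ (K : Type u) [Group K] [Finite K] [IsSimpleGroup K], Spor.IsoTh K → ARow 3 K
  b : ∀ (K : Type u) [Group K] [Finite K] [IsSimpleGroup K], Spor.IsoB K → ARow 3 K
  m : ∀ (K : Type u) [Group K] [Finite K] [IsSimpleGroup K], Spor.IsoM K → ARow 3 K
  tits : ∀ (K : Type u) [Group K] [Finite K] [IsSimpleGroup K], Lie.IsoTits K → ARow 3 K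

end Cfsg.Agent.H533.Wf
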