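import Cfsg.Agent.H533.Wf.Key
import Cfsg.Agent.H106.FixNorm
import Cfsg.Agent.S2277

/-!
# S3826: coprime action

`coprime_pair` : `P = ⟨c, d⟩` a `p`-group (`p` odd, `c ^ p = d ^ p = 1`) in which `C_p ≀ C_p` is not involved, acting on
a `p'`-group `N`; if the pairs of conjugates generate `p`-groups then `[P, P]` centralises `N`.
-/

set_option autoImplicit false
set_option linter.unusedSectionVars false

namespace Cfsg.Agent.H533.Wf

open Cfsg Cfsg.Agent.H106.FixNorm Subgroup

section fix

variable {V : Type*} [CommGroup V] [Finite V] {p : ℕ} [hp : Fact p.Prime]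

/-- The fixed point groups of the `e z ^ i` are independent. -/
theorem prod_card_Fx_le (hcop : (Nat.card V).Coprime p) {e z : MulAut V}
    (he : e ^ p = 1) (hz : z ^ p = 1) (hez : e * z = z * e) (hzf : ∀ v, z v = v → v = 1) :
    ∏ i : Fin p, Nat.card (Fx (e * z ^ (i : ℕ))) ≤ Nat.card V := by
  rw [← Nat.card_pi]
  let f : (∀ i : Fin p, Fx (e * z ^ (i : ℕ))) → V := fun x => ∏ i, (x i : V)
  refine Nat.card_le_card_of_injective f ?_
  intro x y hxy
  have hxy' : ∏ i, (x i : V) = ∏ i, (y i : V) := hxy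
  have key : ∀ x : (∀ i : Fin p, Fx (e * z ^ (i : ℕ))), ∀ j : Fin p,
      nm p (e * z ^ (j : ℕ)) (∏ i, (x i : V)) = (x j : V) ^ p := by
    intro x j
    rw [map_prod, Finset.prod_eq_single_of_mem j (Finset.mem_univ j), nm_of_fixed (x j).2]
    intro i _ hij
    exact nm_eq_one he hz hez hzf (fun h => hij (Fin.ext h)) i.2 j.2 (x i).2
  funext j
  have h1 := key x j
  rw [hxy', key y j] at h1
  have h2 : ((x j : V) / y j) ^ p = 1 := by rw [div_pow, h1, div_self']
  exact Subtype.ext (div_eq_one.1 (eq_one_of_pow hcop h2))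

theorem index_le_of_mul {F F' : Subgroup V} (h : ∀ v : V, ∃ x ∈ F, ∃ y ∈ F', v = x * y) :
    F'.index ≤ Nat.card F := by
  rw [Subgroup.index]
  refine Nat.card_le_card_of_surjective (fun x : F => (QuotientGroup.mk (x : V) : V ⧸ F')) ?_
  intro q
  obtain ⟨v, rfl⟩ := QuotientGroup.mk_surjective q
  obtain ⟨x, hx, y, hy, rfl⟩ := h v
  refine ⟨⟨x, hx⟩, ?_⟩
  show (QuotientGroup.mk x : V ⧸ F') = QuotientGroup.mk (x * y)
  rw [QuotientGroup.eq, inv_mul_cancel_left]
  exact hy

/-- The counting argument. -/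
theorem irr_aux (hcop : (Nat.card V).Coprime p) {c d b z : MulAut V} (hcp : c ^ p = 1)
    (hP : IsPGroup p ↥(Subgroup.closure ({c, d} : Set (MulAut V))))
    (hW : WFree p ↥(Subgroup.closure ({c, d} : Set (MulAut V))))
    (hirr : ∀ W : Subgroup V, (∀ w ∈ W, c w ∈ W) → (∀ w ∈ W, d w ∈ W) → W = ⊥ ∨ W = ⊤)
    (hd1 : d ≠ 1) (hb : b ^ p = 1) (hz : z ^ p = 1) (hbz : b * z = z * b)
    (hzf : ∀ v, z v = v → v = 1) (hcz : c * z = z * c) {k : ℕ} (hk : Nat.Coprime k p)
    (hcb : c * b = b * z ^ k * c)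
    (hf : ∀ j : ℕ, ∀ v : V, ∃ x y : V, c x = x ∧ (c ^ j * d * (c ^ j)⁻¹) y = y ∧ v = x * y) :
    ∀ v : V, v = 1 := by
  classical
  have hp2 := hp.out.two_le
  set f := Nat.card (Fx c) with hfdef
  -- `f ^ p ≤ |V|`
  have h1 : f ^ p ≤ Nat.card V := by
    calc f ^ p = ∏ _i : Fin p, f := by rw [Finset.prod_const, Finset.card_univ, Fintype.card_fin]
      _ ≤ ∏ i : Fin p, Nat.card (Fx (b * z ^ (i : ℕ))) :=
        Finset.prod_le_prod' fun i _ => card_Fx_le hcop hb hz hbz hzf hcz hk hcb i
      _ ≤ Nat.card V := prod_card_Fx_le hcop hb hz hbz hzf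
  -- the intersection
  let F : ℕ → Subgroup V := fun j => Fx (c ^ j * d * (c ^ j)⁻¹)
  have hFmem : ∀ j v, v ∈ F j ↔ (c ^ j * d * (c ^ j)⁻¹) v = v := fun j v => Iff.rfl
  have hpow : ∀ j, c ^ (j % p) = c ^ j := fun j => pow_mod_conj hcp j
  have hFmod : ∀ j, F (j % p) = F j := by
    intro j
    show Fx _ = Fx _
    rw [hpow]
  have hbot : ∀ v : V, (∀ j, 0 < j → j < p → v ∈ F j) → v = 1 := by
    intro v hv
    have hd0 : d v = v := by
      let K₁ : Subgroup (MulAut V) :=
        { carrier := {a | a v = v}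
          one_mem' := rfl
          mul_mem' := by
            intro a b ha hb
            show (a * b) v = v
            rw [MulAut.mul_apply, show b v = v from hb]
            exact ha
          inv_mem' := by
            intro a ha
            show a⁻¹ v = v
            have : a v = v := ha
            calc a⁻¹ v = a⁻¹ (a v) := by rw [this]
              _ = v := MulAut.inv_apply_self _ _ _ }
      exact key (p := p) hcp hP hW (K₁ := K₁) (fun j h0 hj => hv j h0 hj)
    have hall : ∀ j, v ∈ F j := by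
      intro j
      rw [← hFmod j]
      rcases Nat.eq_zero_or_pos (j % p) with h0 | h0
      · rw [h0, hFmem, pow_zero, one_mul, inv_one, mul_one]; exact hd0
      · exact hv _ h0 (Nat.mod_lt _ hp.out.pos)
    let W : Subgroup V := ⨅ j, F j
    have hvW : v ∈ W := Subgroup.mem_iInf.mpr hall
    have hWc : ∀ w ∈ W, c w ∈ W := by
      intro w hw
      rw [Subgroup.mem_iInf] at hw ⊢
      intro j
      -- `F j` contains `c w` as `F (j + p - 1)` contains `w`
      have hw1 := hw (j + (p - 1))
      rw [hFmem] at hw1 ⊢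
      have e1 : c ^ (j + (p - 1)) = c ^ j * c⁻¹ := by
        rw [pow_add]
        congr 1
        rw [eq_inv_iff_mul_eq_one, ← pow_succ, Nat.sub_add_cancel hp.out.one_lt.le, hcp]
      have e2 : c ^ j * d * (c ^ j)⁻¹ = c * (c ^ (j + (p - 1)) * d * (c ^ (j + (p - 1)))⁻¹) * c⁻¹ := by
        have e3 : c * (c ^ j * c⁻¹) = c ^ j := by
          rw [← mul_assoc, ← pow_succ', pow_succ, mul_inv_cancel_right]
        rw [e1]
        calc c ^ j * d * (c ^ j)⁻¹ = (c * (c ^ j * c⁻¹)) * d * (c * (c ^ j * c⁻¹))⁻¹ := by rw [e3]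
          _ = _ := by group
      rw [e2, MulAut.mul_apply, MulAut.mul_apply, MulAut.inv_apply_self, hw1]
    have hWd : ∀ w ∈ W, d w ∈ W := by
      intro w hw
      have h2 : d w = w := by
        have := (Subgroup.mem_iInf.mp hw) 0
        rw [hFmem, pow_zero, one_mul, inv_one, mul_one] at this
        exact this
      rw [h2]; exact hw
    rcases hirr W hWc hWd with h | h
    · rw [h, Subgroup.mem_bot] at hvW
      exact hvW
    · exfalso
      apply hd1
      ext w
      have hwW : w ∈ W := by rw [h]; exact Subgroup.mem_top w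
      have := (Subgroup.mem_iInf.mp hwW) 0
      rw [hFmem, pow_zero, one_mul, inv_one, mul_one] at this
      rw [this]; rfl
  -- `|V| ≤ f ^ (p - 1)`
  have h2 : Nat.card V ≤ f ^ (p - 1) := by
    let F' : Fin (p - 1) → Subgroup V := fun i => F (i + 1)
    have hF' : (⨅ i, F' i) = ⊥ := by
      rw [eq_bot_iff]
      intro v hv
      rw [Subgroup.mem_bot]
      apply hbot
      intro j h0 hj
      have := (Subgroup.mem_iInf.mp hv) ⟨j - 1, by omega⟩
      have e : j - 1 + 1 = j := by omega
      simpa only [F', e] using this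
    calc Nat.card V = (⨅ i, F' i).index := by rw [hF', Subgroup.index_bot]
      _ ≤ ∏ i, (F' i).index := Subgroup.index_iInf_le F'
      _ ≤ ∏ _i : Fin (p - 1), f := by
        refine Finset.prod_le_prod' fun i _ => index_le_of_mul ?_
        intro v
        obtain ⟨x, y, hx, hy, hv⟩ := hf (i + 1) v
        exact ⟨x, hx, y, hy, hv⟩
      _ = f ^ (p - 1) := by rw [Finset.prod_const, Finset.card_univ, Fintype.card_fin]
  have hf0 : 0 < f := Nat.card_pos
  have hf1 : f = 1 := by
    by_contra hne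
    have hf2 : 1 < f := by omega
    have h3 : f ^ p ≤ f ^ (p - 1) := h1.trans h2
    have h4 := (Nat.pow_le_pow_iff_right hf2).mp h3
    omega
  have h5 : Nat.card V ≤ 1 := by rw [hf1, one_pow] at h2; exact h2
  have h6 : Nat.card V = 1 := le_antisymm h5 Nat.card_pos
  intro v
  exact (Nat.card_eq_one_iff_unique.1 h6).1.elim _ _

/-- The irreducible case. -/
theorem irr_pair (hp3 : 3 ≤ p) (hcop : (Nat.card V).Coprime p) {c d : MulAut V} (hcp : c ^ p = 1)
    (hdp : d ^ p = 1) {P : Subgroup (MulAut V)} (hPcd : Subgroup.closure ({c, d} : Set (MulAut V)) = P)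
    (hP : IsPGroup p P) (hW : WFree p P)
    (hirr : ∀ W : Subgroup V, (∀ a ∈ P, ∀ w ∈ W, a w ∈ W) → W = ⊥ ∨ W = ⊤)
    (hf : ∀ a ∈ P, ∀ b ∈ P, ∀ v : V, ∃ x y : V, (a * c * a⁻¹) x = x ∧ (b * d * b⁻¹) y = y ∧
      v = x * y) : c * d = d * c := by
  classical
  by_contra hcd
  have hc1 : c ≠ 1 := by
    rintro rfl
    exact hcd (by rw [one_mul, mul_one])
  have hd1 : d ≠ 1 := by
    rintro rfl
    exact hcd (by rw [one_mul, mul_one])
  have hcP : c ∈ P := by rw [← hPcd]; exact Subgroup.subset_closure (by simp)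
  have hdP : d ∈ P := by rw [← hPcd]; exact Subgroup.subset_closure (by simp)
  have hPne : P ≠ ⊥ := by
    intro h
    rw [h, Subgroup.mem_bot] at hcP
    exact hc1 hcP
  have hnt : ¬ ∀ v : V, v = 1 := by
    intro hv
    apply hc1
    ext v
    rw [hv v]
    simp
  -- fixed points of a central element
  have hcent : ∀ z ∈ P, (∀ a ∈ P, a * z = z * a) → z ≠ 1 → ∀ v, z v = v → v = 1 := by
    intro z hz hzc hz1 v hv
    rcases hirr (Fx z) (fun a ha w hw => by
      rw [mem_Fx] at hw ⊢
      rw [← MulAut.mul_apply, ← hzc a ha, MulAut.mul_apply, hw]) with h1 | h1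
    · have h2 : v ∈ Fx z := hv
      rw [h1, Subgroup.mem_bot] at h2
      exact h2
    · exfalso
      apply hz1
      ext w
      have h2 : w ∈ Fx z := h1 ▸ Subgroup.mem_top w
      rw [mem_Fx] at h2
      rw [h2]
      simp
  have hcyc : ¬ IsCyclic P := by
    intro hcyc
    apply hcd
    obtain ⟨g, hg⟩ := hcyc.exists_generator
    obtain ⟨i, hi⟩ := hg ⟨c, hcP⟩
    obtain ⟨j, hj⟩ := hg ⟨d, hdP⟩
    have h1 : (⟨c, hcP⟩ : P) * ⟨d, hdP⟩ = ⟨d, hdP⟩ * ⟨c, hcP⟩ := by
      rw [← hi, ← hj]
      exact (Commute.refl g).zpow_zpow i j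
    exact congrArg Subtype.val h1
  obtain ⟨A, hAn, hAel, hAc⟩ := Cfsg.Agent.S0126.result (R := P) (by omega) hP hcyc
  have hAnc : ¬ IsCyclic A := by
    intro hAcyc
    obtain ⟨a, ha⟩ := hAcyc.exists_generator
    have h1 : orderOf a = Nat.card A := orderOf_eq_card_of_forall_mem_zpowers ha
    have h2 : a ^ p = 1 := by
      apply Subtype.ext
      have := hAel.2 a a.2
      simpa using this
    have h3 : orderOf a ∣ p := orderOf_dvd_of_pow_eq_one h2
    rw [h1, hAc] at h3
    have h4 := Nat.le_of_dvd hp.out.pos h3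
    have h5 := hp.out.two_le
    nlinarith
  obtain ⟨z, b, hzc, hzo, hbp, hbz, hbc⟩ :=
    Cfsg.Agent.H351.HT.exists_config hP A hAel.1 hAnc
  have hz1 : z ≠ 1 := by
    intro h1
    rw [h1, orderOf_one] at hzo
    exact hp.out.one_lt.ne hzo
  have hzp : (z : MulAut V) ^ p = 1 := by
    have h1 : z ^ p = 1 := hzo ▸ pow_orderOf_eq_one z
    exact_mod_cast congrArg Subtype.val h1
  have hbp' : (b : MulAut V) ^ p = 1 := by exact_mod_cast congrArg Subtype.val hbp
  have hzc' : ∀ a ∈ P, a * (z : MulAut V) = z * a := fun a ha =>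
    congrArg Subtype.val (hzc ⟨a, ha⟩)
  have hzf : ∀ v, (z : MulAut V) v = v → v = 1 :=
    hcent z z.2 hzc' (fun h1 => hz1 (Subtype.ext h1))
  have hbz' : (b : MulAut V) * z = z * b := hzc' b b.2
  have hbcen : ¬ ∀ a ∈ P, a * (b : MulAut V) = b * a := by
    intro hbcen
    -- `b` central: every `b z ^ i` is fixed point free
    apply hnt
    intro v
    have h1 := prod_nm (p := p) hzp hbz' hzf v
    have h2 : ∀ i ∈ Finset.range p, nm p ((b : MulAut V) * (z : MulAut V) ^ i) v = 1 := by
      intro i _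
      apply hcent ((b : MulAut V) * (z : MulAut V) ^ i) (P.mul_mem b.2 (P.pow_mem z.2 i))
      · intro a ha
        rw [← mul_assoc, hbcen a ha, mul_assoc, mul_assoc]
        congr 1
        exact (Commute.pow_right (hzc' a ha) i)
      · intro h3
        apply hbz
        have h4 : b * z ^ i = 1 := Subtype.ext (by exact_mod_cast h3)
        rw [eq_inv_of_mul_eq_one_left h4]
        exact inv_mem (pow_mem (Subgroup.mem_zpowers z) i)
      · exact nm_fixed (pow_eq_one hbp' hzp hbz' i) v
    rw [Finset.prod_congr rfl h2, Finset.prod_const_one] at h1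
    exact eq_one_of_pow hcop h1.symm
  have hmove : ∀ a ∈ P, ¬ a * (b : MulAut V) = b * a →
      ∃ k : ℕ, Nat.Coprime k p ∧ a * (b : MulAut V) = b * z ^ k * a := by
    intro a haP hab
    obtain ⟨k, hk⟩ := hbc ⟨a, haP⟩
    have hk' : a * (b : MulAut V) = b * z ^ k * a := by
      have h2 := congrArg Subtype.val hk
      simp only [Subgroup.coe_mul, Subgroup.coe_inv, Subgroup.coe_pow] at h2
      rw [← h2]
      group
    refine ⟨k, ?_, hk'⟩
    rw [Nat.coprime_comm, Nat.Prime.coprime_iff_not_dvd hp.out]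
    rintro ⟨m, rfl⟩
    apply hab
    rw [hk', pow_mul, hzp, one_pow, mul_one]
  have hirr' : ∀ c d : MulAut V, Subgroup.closure ({c, d} : Set (MulAut V)) = P → ∀ W : Subgroup V,
      (∀ w ∈ W, c w ∈ W) → (∀ w ∈ W, d w ∈ W) → W = ⊥ ∨ W = ⊤ := by
    intro c d hPcd W hWc hWd
    apply hirr W
    have hinv : ∀ a : MulAut V, (∀ w ∈ W, a w ∈ W) → ∀ w ∈ W, a⁻¹ w ∈ W := by
      intro a ha w hw
      have h1 : W.map a.toMonoidHom ≤ W := by
        rintro _ ⟨x, hx, rfl⟩
        exact ha x hx
      have h2 : W.map a.toMonoidHom = W := by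
        apply Subgroup.eq_of_le_of_card_ge h1
        exact (Nat.card_congr (W.equivMapOfInjective a.toMonoidHom a.injective).toEquiv).le
      rw [← h2] at hw
      obtain ⟨x, hx, rfl⟩ := hw
      have : a⁻¹ (a.toMonoidHom x) = x := MulAut.inv_apply_self _ _ _
      rw [this]
      exact hx
    intro a ha
    rw [← hPcd] at ha
    induction ha using Subgroup.closure_induction with
    | mem x hx =>
      rcases hx with rfl | hx
      · exact hWc
      · rw [Set.mem_singleton_iff] at hx
        rw [hx]; exact hWd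
    | one => intro w hw; exact hw
    | mul x y _ _ hx hy => intro w hw; exact hx _ (hy w hw)
    | inv x _ hx => exact hinv x hx
  have hex : ¬ c * (b : MulAut V) = b * c ∨ ¬ d * (b : MulAut V) = b * d := by
    by_contra hcon
    push Not at hcon
    apply hbcen
    intro a ha
    have h2 : Subgroup.closure ({c, d} : Set (MulAut V)) ≤ Subgroup.centralizer {(b : MulAut V)} := by
      rw [Subgroup.closure_le]
      rintro x (rfl | hx)
      · rw [SetLike.mem_coe, Subgroup.mem_centralizer_singleton_iff]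
        exact hcon.1
      · rw [Set.mem_singleton_iff] at hx
        rw [hx, SetLike.mem_coe, Subgroup.mem_centralizer_singleton_iff]
        exact hcon.2
    have h3 := h2 (hPcd.symm ▸ ha)
    rw [Subgroup.mem_centralizer_singleton_iff] at h3
    exact h3
  rcases hex with hcb | hdb
  · obtain ⟨k, hk, hke⟩ := hmove c hcP hcb
    refine hnt (irr_aux hcop hcp (hPcd ▸ hP) (hPcd ▸ hW) (hirr' c d hPcd) hd1 hbp' hzp hbz'
      hzf (hzc' c hcP) hk hke ?_)
    intro j v
    obtain ⟨x, y, hx, hy, hv⟩ := hf 1 (one_mem P) (c ^ j) (pow_mem hcP j) v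
    refine ⟨x, y, ?_, hy, hv⟩
    simpa using hx
  · obtain ⟨k, hk, hke⟩ := hmove d hdP hdb
    have hPdc : Subgroup.closure ({d, c} : Set (MulAut V)) = P := by rw [Set.pair_comm]; exact hPcd
    refine hnt (irr_aux hcop hdp (hPdc ▸ hP) (hPdc ▸ hW) (hirr' d c hPdc) hc1 hbp' hzp hbz'
      hzf (hzc' d hdP) hk hke ?_)
    intro j v
    obtain ⟨x, y, hx, hy, hv⟩ := hf (d ^ j) (pow_mem hdP j) 1 (one_mem P) v
    refine ⟨y, x, ?_, hx, by rw [mul_comm]; exact hv⟩
    simpa using hy

end fix

section Reduction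

open scoped commutatorElement

open Cfsg.Agent.S2277 (factor secHom secHom_apply mk_eq_mk)

variable {G : Type*} [Group G] [Finite G] {p : ℕ} [hp : Fact p.Prime]

/-- The hypotheses on the pair: `P = ⟨c, d⟩` is a `p`-group in which `C_p ≀ C_p` is not involved,
the pairs of conjugates under `N P` generate `p`-groups. -/
structure PairOn (p : ℕ) (P N : Subgroup G) (c d : G) : Prop where
  clo : Subgroup.closure ({c, d} : Set G) = P
  isP : IsPGroup p P
  free : WFree p P
  cp : c ^ p = 1
  dp : d ^ p = 1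
  norm : P ≤ Subgroup.normalizer (N : Set G)
  cop : (Nat.card N).Coprime p
  pair : ∀ x ∈ N, ∀ a ∈ P, ∀ b ∈ P,
    IsPGroup p (Subgroup.closure ({x * (a * c * a⁻¹) * x⁻¹, b * d * b⁻¹} : Set G))

omit [Finite G] in
theorem PairOn.mem_left {P N : Subgroup G} {c d : G} (h : PairOn p P N c d) : c ∈ P := by
  rw [← h.clo]; exact Subgroup.subset_closure (by simp)

omit [Finite G] in
theorem PairOn.mem_right {P N : Subgroup G} {c d : G} (h : PairOn p P N c d) : d ∈ P := by
  rw [← h.clo]; exact Subgroup.subset_closure (by simp)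

/-- The section case. -/
theorem section_pair (hp3 : 3 ≤ p) {P N X : Subgroup G} {c d : G} (h : PairOn p P N c d)
    (hPX : P ≤ Subgroup.normalizer (X : Set G)) (hXN : X ≤ N) (hNN : ⁅N, N⁆ ≤ X)
    (hirr : ∀ W : Subgroup G, X ≤ W → W ≤ N → P ≤ Subgroup.normalizer (W : Set G) → W = X ∨ W = N) :
    ⁅N, ⁅P, P⁆⁆ ≤ X := by
  classical
  have hPN := h.norm
  have hP := h.isP
  have hN := h.cop
  have hcomm : ∀ a ∈ N, ∀ b ∈ N, ⁅a, b⁆ ∈ X := fun a ha b hb =>
    hNN (Subgroup.commutator_mem_commutator ha hb)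
  have hXn : (X.subgroupOf N).Normal := by
    refine ⟨fun x hx g => ?_⟩
    rw [Subgroup.mem_subgroupOf] at hx ⊢
    have h1 : ((g * x * g⁻¹ : N) : G) = ⁅(g : G), (x : G)⁆ * x := by
      rw [commutatorElement_def]
      push_cast
      group
    rw [h1]
    exact X.mul_mem (hcomm g g.2 x x.2) hx
  let instV : CommGroup (N ⧸ X.subgroupOf N) :=
    { (inferInstance : Group (N ⧸ X.subgroupOf N)) with
      mul_comm := by
        rintro ⟨a⟩ ⟨b⟩
        change QuotientGroup.mk (a * b) = QuotientGroup.mk (b * a)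
        have h1 := hcomm a a.2 b b.2
        refine (mk_eq_mk (a * b).2 (b * a).2).2 ?_
        have h2 : ((a * b : N) : G) * ((b * a : N) : G)⁻¹ = ⁅(a : G), (b : G)⁆ := by
          rw [commutatorElement_def]
          push_cast
          group
        rw [h2]
        exact h1 }
  have hcop : (Nat.card (N ⧸ X.subgroupOf N)).Coprime p := by
    have h1 : Nat.card (N ⧸ X.subgroupOf N) ∣ Nat.card N := Subgroup.card_quotient_dvd_card _
    exact Nat.Coprime.coprime_dvd_left h1 hN
  let φ := secHom N X P hPN hPX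
  have hφP : IsPGroup p φ.range := hP.of_surjective φ.rangeRestrict φ.rangeRestrict_surjective
  have hφW : WFree p φ.range := h.free.of_surjective φ.rangeRestrict φ.rangeRestrict_surjective
  set c' : P := ⟨c, h.mem_left⟩ with hc'
  set d' : P := ⟨d, h.mem_right⟩ with hd'
  have hclo : Subgroup.closure ({φ c', φ d'} : Set (MulAut (N ⧸ X.subgroupOf N))) = φ.range := by
    have h1 : Subgroup.closure ({c', d'} : Set P) = ⊤ := by
      apply Subgroup.map_injective P.subtype_injective
      rw [MonoidHom.map_closure, Set.image_pair, ← MonoidHom.range_eq_map, Subgroup.range_subtype]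
      exact h.clo
    rw [MonoidHom.range_eq_map, ← h1, MonoidHom.map_closure, Set.image_pair]
  have hfixV : ∀ (c : P) (y : G) (hy : y ∈ N), y * c = c * y →
      φ c (QuotientGroup.mk ⟨y, hy⟩) = QuotientGroup.mk ⟨y, hy⟩ := by
    intro c y hy hyc
    obtain ⟨hm, h2⟩ := secHom_apply hPN hPX c hy
    change secHom N X P hPN hPX c (QuotientGroup.mk (⟨y, hy⟩ : N)) = _
    rw [h2]
    congr 1
    apply Subtype.ext
    change (c : G) * y * (c : G)⁻¹ = y
    rw [← hyc]
    group
  have hcc : φ c' * φ d' = φ d' * φ c' := by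
    refine irr_pair hp3 hcop (P := φ.range) ?_ ?_ hclo hφP hφW ?_ ?_
    · rw [← map_pow]
      have : c' ^ p = 1 := Subtype.ext h.cp
      rw [this, map_one]
    · rw [← map_pow]
      have : d' ^ p = 1 := Subtype.ext h.dp
      rw [this, map_one]
    · intro W hW
      let W' : Subgroup G := (W.comap (QuotientGroup.mk' (X.subgroupOf N))).map N.subtype
      have hW' : ∀ g : G, ∀ hg : g ∈ N, g ∈ W' ↔ (QuotientGroup.mk (⟨g, hg⟩ : N)) ∈ W := by
        intro g hg
        constructor
        · rintro ⟨n, hn, hng⟩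
          have : n = ⟨g, hg⟩ := Subtype.ext hng
          rw [← this]
          exact hn
        · intro h1
          exact ⟨⟨g, hg⟩, h1, rfl⟩
      have hW'N : W' ≤ N := by
        rintro _ ⟨n, -, rfl⟩
        exact n.2
      have h1 := hirr W' ?_ hW'N ?_
      · rcases h1 with h1 | h1
        · left
          rw [eq_bot_iff]
          intro q hv
          obtain ⟨v, rfl⟩ := QuotientGroup.mk_surjective q
          have h2 : (v : G) ∈ W' := (hW' v v.2).2 hv
          rw [h1] at h2
          rw [Subgroup.mem_bot]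
          exact (QuotientGroup.eq_one_iff v).2 h2
        · right
          rw [eq_top_iff]
          intro q _
          obtain ⟨v, rfl⟩ := QuotientGroup.mk_surjective q
          have h2 : (v : G) ∈ W' := by rw [h1]; exact v.2
          exact (hW' v v.2).1 h2
      · intro x hx
        rw [hW' x (hXN hx)]
        have h2 : (QuotientGroup.mk (⟨x, hXN hx⟩ : N) : N ⧸ X.subgroupOf N) = 1 :=
          (QuotientGroup.eq_one_iff _).2 hx
        rw [h2]
        exact W.one_mem
      · intro a ha
        have hle : ∀ a ∈ P, ∀ w ∈ W', a * w * a⁻¹ ∈ W' := by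
          intro a ha w hw
          have hwN := hW'N hw
          rw [hW' w hwN] at hw
          obtain ⟨hm, h2⟩ := secHom_apply hPN hPX ⟨a, ha⟩ hwN
          rw [hW' _ hm, ← h2]
          exact hW _ ⟨⟨a, ha⟩, rfl⟩ _ hw
        rw [Subgroup.mem_normalizer_iff]
        intro w
        constructor
        · exact hle a ha w
        · intro hw
          have h3 := hle a⁻¹ (P.inv_mem ha) _ hw
          have h4 : a⁻¹ * (a * w * a⁻¹) * a⁻¹⁻¹ = w := by group
          rwa [h4] at h3
    · rintro _ ⟨a, rfl⟩ _ ⟨b, rfl⟩ ⟨v⟩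
      obtain ⟨y, hy, w, hw, hyc, hwd, hv⟩ := factor hP hPN hN (c := (a * c' * a⁻¹ : P))
        (d := (b * d' * b⁻¹ : P)) (a * c' * a⁻¹).2 (b * d' * b⁻¹).2 v.2 (by
          have := h.pair v v.2 a a.2 b b.2
          simpa using this)
      refine ⟨QuotientGroup.mk ⟨y, hy⟩, QuotientGroup.mk ⟨w, hw⟩, ?_, ?_, ?_⟩
      · rw [← map_inv, ← map_mul, ← map_mul]
        exact hfixV _ y hy hyc
      · rw [← map_inv, ← map_mul, ← map_mul]
        exact hfixV _ w hw hwd
      · rw [mul_comm]
        change QuotientGroup.mk v = QuotientGroup.mk (⟨w, hw⟩ * ⟨y, hy⟩)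
        congr 1
        exact Subtype.ext hv
  -- the range is commutative
  have hker : ⁅P, P⁆ ≤ (φ.ker).map P.subtype := by
    have h1 : (Subgroup.closure ({φ c', φ d'} : Set (MulAut (N ⧸ X.subgroupOf N)))) ≤
        Subgroup.centralizer (φ.range : Set (MulAut (N ⧸ X.subgroupOf N))) := by
      have h2 : Subgroup.closure ({φ c', φ d'} : Set (MulAut (N ⧸ X.subgroupOf N))) ≤
          Subgroup.centralizer (({φ c', φ d'} : Set (MulAut (N ⧸ X.subgroupOf N)))) := by
        rw [Subgroup.closure_le]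
        rintro x (rfl | hx)
        · rw [SetLike.mem_coe, Subgroup.mem_centralizer_iff]
          rintro y (rfl | hy)
          · rfl
          · rw [Set.mem_singleton_iff] at hy
            rw [hy]; exact hcc.symm
        · rw [Set.mem_singleton_iff] at hx
          rw [hx, SetLike.mem_coe, Subgroup.mem_centralizer_iff]
          rintro y (rfl | hy)
          · exact hcc
          · rw [Set.mem_singleton_iff] at hy
            rw [hy]
      rw [← hclo, Subgroup.centralizer_closure] 
      exact h2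
    rw [Subgroup.commutator_le]
    intro x hx y hy
    refine ⟨⁅(⟨x, hx⟩ : P), (⟨y, hy⟩ : P)⁆, ?_, rfl⟩
    rw [SetLike.mem_coe, MonoidHom.mem_ker, map_commutatorElement, commutatorElement_eq_one_iff_mul_comm]
    have h3 : φ ⟨x, hx⟩ ∈ Subgroup.centralizer (φ.range : Set (MulAut (N ⧸ X.subgroupOf N))) := by
      apply h1
      rw [hclo]
      exact ⟨_, rfl⟩
    exact (Subgroup.mem_centralizer_iff.mp h3 _ ⟨⟨y, hy⟩, rfl⟩).symm
  rw [Subgroup.commutator_le]
  intro n hn a ha
  obtain ⟨⟨a, haP⟩, haK, rfl⟩ := hker ha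
  have h1 : φ ⟨a, haP⟩ = 1 := haK
  obtain ⟨hm, h2⟩ := secHom_apply hPN hPX ⟨a, haP⟩ hn
  have h3 : secHom N X P hPN hPX ⟨a, haP⟩ (QuotientGroup.mk (⟨n, hn⟩ : N)) =
      QuotientGroup.mk (⟨n, hn⟩ : N) := by
    change φ ⟨a, haP⟩ (QuotientGroup.mk (⟨n, hn⟩ : N)) = QuotientGroup.mk (⟨n, hn⟩ : N)
    rw [h1]
    rfl
  rw [h3, mk_eq_mk] at h2
  have h4 : n * (a * n * a⁻¹)⁻¹ = ⁅n, a⁆ := by
    rw [commutatorElement_def]
    group
  show ⁅n, (a : G)⁆ ∈ X
  rw [← h4]
  exact h2

/-- Solvable `p'`-groups. -/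
theorem solvable_pair (hp3 : 3 ≤ p) {P : Subgroup G} {c d : G} (n : ℕ) :
    ∀ N : Subgroup G, Nat.card N ≤ n → Group.IsSolvable N → PairOn p P N c d →
      ⁅N, ⁅P, P⁆⁆ = ⊥ := by
  classical
  induction n with
  | zero =>
    intro N hn
    have : 0 < Nat.card N := Nat.card_pos
    omega
  | succ n ih =>
    intro N hn hsol h
    have hPN := h.norm
    have hN := h.cop
    by_cases hN1 : N = ⊥
    · rw [hN1, Subgroup.commutator_bot_left]
    have hNN : ⁅N, N⁆ < N := by
      refine lt_of_le_of_ne (Subgroup.commutator_le_self N) ?_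
      intro h1
      have hnt : Nontrivial N := (Subgroup.nontrivial_iff_ne_bot N).2 hN1
      have h2 : commutator N < ⊤ := Group.IsSolvable.commutator_lt_top_of_nontrivial N
      apply h2.ne
      apply Subgroup.map_injective N.subtype_injective
      rw [commutator_def, Subgroup.map_commutator, ← MonoidHom.range_eq_map, Subgroup.range_subtype, h1]
    have hPNN : P ≤ Subgroup.normalizer ((⁅N, N⁆ : Subgroup G) : Set G) := by
      intro a ha
      rw [Subgroup.mem_normalizer_iff_map_conj_eq]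
      rw [Subgroup.map_commutator]
      have h1 := hPN ha
      rw [Subgroup.mem_normalizer_iff_map_conj_eq] at h1
      rw [h1]
    obtain ⟨X, hX⟩ : ∃ X : Subgroup G, Maximal (fun X : Subgroup G => ⁅N, N⁆ ≤ X ∧ X < N ∧
        P ≤ Subgroup.normalizer (X : Set G)) X := by
      have hfin : {X : Subgroup G | ⁅N, N⁆ ≤ X ∧ X < N ∧
        P ≤ Subgroup.normalizer (X : Set G)}.Finite := Set.toFinite _
      obtain ⟨X, hX⟩ := hfin.exists_maximal ⟨⁅N, N⁆, le_rfl, hNN, hPNN⟩
      exact ⟨X, hX⟩
    have h1 : ⁅N, ⁅P, P⁆⁆ ≤ X := by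
      refine section_pair hp3 h hX.prop.2.2 hX.prop.2.1.le hX.prop.1 ?_
      intro W hXW hWN hPW
      by_cases hW : W = N
      · right; exact hW
      · left
        exact le_antisymm (hX.2 ⟨hX.prop.1.trans hXW, lt_of_le_of_ne hWN hW, hPW⟩ hXW) hXW
    have h2 : ⁅X, ⁅P, P⁆⁆ = ⊥ := by
      refine ih X ?_ ?_ { h with
        norm := hX.prop.2.2
        cop := Nat.Coprime.coprime_dvd_left (Subgroup.card_dvd_of_le hX.prop.2.1.le) hN
        pair := fun x hx => h.pair x (hX.prop.2.1.le hx) }
      · have h3 : Nat.card X < Nat.card N :=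
          Set.Finite.card_lt_card (Set.toFinite (N : Set G)) hX.prop.2.1
        omega
      · exact Group.isSolvable_of_isSolvable_injective (Subgroup.inclusion_injective hX.prop.2.1.le)
    have hP'P : ⁅P, P⁆ ≤ P := Subgroup.commutator_le_self P
    have hP' : IsPGroup p (⁅P, P⁆ : Subgroup G) := h.isP.to_le hP'P
    have hcop : (Nat.card (⁅P, P⁆ : Subgroup G)).Coprime (Nat.card N) := by
      obtain ⟨k, hk⟩ := IsPGroup.iff_card.mp hP'
      rw [hk]
      exact (Nat.Coprime.pow_right k hN).symm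
    have h3 := Cfsg.Agent.Lib.CoprimeCommutator.commutator_commutator_eq ⁅P, P⁆ N (hP'P.trans hPN) hcop
    rw [← h3, eq_bot_iff, ← h2]
    exact Subgroup.commutator_mono h1 le_rfl

/-- **The coprime case.** -/
theorem coprime_pair (hp3 : 3 ≤ p) {P N : Subgroup G} [N.Normal] {c d : G} (h : PairOn p P N c d) :
    ⁅P, P⁆ ≤ Subgroup.centralizer (N : Set G) := by
  classical
  let Z : Subgroup G := Subgroup.centralizer ((⁅P, P⁆ : Subgroup G) : Set G)
  have hZ : N ≤ Z := by
    rw [← Subgroup.relIndex_eq_one]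
    by_contra hne
    obtain ⟨r, hr, hrd⟩ := Nat.exists_prime_and_dvd hne
    have : Fact r.Prime := ⟨hr⟩
    obtain ⟨Q, hQ⟩ := Cfsg.Agent.PLocal.ComplementReduction.exists_invariant_sylow (p := p) (q := r)
      N P h.cop h.isP
    have hQp : IsPGroup r ((Q : Subgroup N).map N.subtype) := Q.isPGroup'.map N.subtype
    have hsol : Group.IsSolvable ((Q : Subgroup N).map N.subtype) := by
      have := hQp.isNilpotent
      infer_instance
    have hle : (Q : Subgroup N).map N.subtype ≤ N := Subgroup.map_subtype_le _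
    have h1 := solvable_pair hp3 _ ((Q : Subgroup N).map N.subtype) le_rfl hsol { h with
        norm := hQ
        cop := Nat.Coprime.coprime_dvd_left (Subgroup.card_dvd_of_le hle) h.cop
        pair := fun x hx => h.pair x (hle hx) }
    rw [Subgroup.commutator_eq_bot_iff_le_centralizer] at h1
    have h2 : (Q : Subgroup N) ≤ Z.subgroupOf N := by
      intro x hx
      exact h1 (Subgroup.mem_map_of_mem _ hx)
    have h3 := Subgroup.index_dvd_of_le h2
    exact Q.not_dvd_index (hrd.trans h3)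
  rw [← Subgroup.commutator_eq_bot_iff_le_centralizer, Subgroup.commutator_comm,
    Subgroup.commutator_eq_bot_iff_le_centralizer]
  exact hZ

end Reduction

end Cfsg.Agent.H533.Wf
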