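import Cfsg.Agent.H533.T5.Tools
import Cfsg.Agent.Lib.Involves
import Cfsg.Agent.Lib.Cores
import Cfsg.Prelude.Def_LocalEven

/-!
# S3826: pairs generating `p`-groups in which `C_p ≀ C_p` is not involved

* `WFree p X` : the wreath product `C_p ≀ C_p` is not involved in `X`;
* `Hyp p C D` : the hypotheses of S3826;
* `Thm p G` : the conclusion of S3826 for the group `G`;
* `Cfg p S C D` : the minimal configuration in an almost simple group;
* `WfRow p K` : the row.
-/

set_option autoImplicit false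

namespace Cfsg.Agent.H533.Wf

universe u v

open Subgroup Cfsg Cfsg.Agent.H533.T5

/-- The Sylow `p`-subgroups of the symmetric group of degree `p²` are not involved in `X`. -/
def WFree (p : ℕ) (X : Type v) [Group X] : Prop :=
  ∀ W : Sylow p (Equiv.Perm (Fin (p ^ 2))),
    ¬ Cfsg.Involves ↥(W : Subgroup (Equiv.Perm (Fin (p ^ 2)))) X

/-- The hypotheses of S3826. -/
structure Hyp (p : ℕ) {G : Type u} [Group G] (C D : Set G) : Prop where
  conjC : ∀ g : G, ∀ c ∈ C, g * c * g⁻¹ ∈ C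
  conjD : ∀ g : G, ∀ d ∈ D, g * d * g⁻¹ ∈ D
  pair : ∀ c ∈ C, ∀ d ∈ D, IsPGroup p ↥(Subgroup.closure ({c, d} : Set G))
  free : ∀ c ∈ C, ∀ d ∈ D, WFree p ↥(Subgroup.closure ({c, d} : Set G))

/-- The conclusion of S3826 for the group `G`. -/
def Thm (p : ℕ) (G : Type u) [Group G] : Prop :=
  ∀ C D : Set G, Hyp p C D → ∀ c ∈ C, ∀ d ∈ D, c⁻¹ * d⁻¹ * c * d ∈ Cfsg.pCore p G

/-- The minimal configuration: `C` and `D` are normal sets of elements of order `p` of the almost
simple group `G` with socle `S`, the mixed pairs generate `p`-groups in which `C_p ≀ C_p` is not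
involved, and the theorem S3826 holds for all groups smaller than `G`. -/
structure Cfg (p : ℕ) {G : Type u} [Group G] (S : Subgroup G) (C D : Set G) : Prop
    extends Hyp p C D where
  ordC : ∀ c ∈ C, orderOf c = p
  ordD : ∀ d ∈ D, orderOf d = p
  neC : C.Nonempty
  neD : D.Nonempty
  normal : S.Normal
  simple : IsSimpleGroup S
  nc : ¬ IsMulCommutative S
  dvd : p ∣ Nat.card S
  cent : Subgroup.centralizer (S : Set G) = ⊥
  ih : ∀ (X : Type u) [Group X] [Finite X], Nat.card X < Nat.card G → Thm p X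

/-- The row: no minimal configuration has a socle isomorphic to `K`. -/
def WfRow (p : ℕ) (K : Type v) [Group K] : Prop :=
  ∀ (G : Type u) [Group G] [Finite G] (S : Subgroup G) (C D : Set G),
    Cfg p S C D → Nonempty (S ≃* K) → False

section wfree

variable {p : ℕ} {X : Type u} [Group X] {Y : Type v} [Group Y]

theorem WFree.of_injective (h : WFree p X) (f : Y →* X) (hf : Function.Injective f) :
    WFree p Y := by
  intro W hW
  obtain ⟨K, R, hR, e⟩ := hW
  have h1 : Cfsg.Agent.Lib.Involves.Involves Y ↥(W : Subgroup (Equiv.Perm (Fin (p ^ 2)))) :=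
    Cfsg.Agent.Lib.Involves.involves_iff.2 ⟨K, R, hR, e⟩
  have h2 : Cfsg.Agent.Lib.Involves.Involves X ↥(W : Subgroup (Equiv.Perm (Fin (p ^ 2)))) :=
    Cfsg.Agent.Lib.Involves.trans (Cfsg.Agent.Lib.Involves.of_injective f hf) h1
  exact h W (Cfsg.Agent.Lib.Involves.involves_iff.1 h2)

theorem WFree.of_surjective (h : WFree p X) (f : X →* Y) (hf : Function.Surjective f) :
    WFree p Y := by
  intro W hW
  obtain ⟨K, R, hR, e⟩ := hW
  have h1 : Cfsg.Agent.Lib.Involves.Involves Y ↥(W : Subgroup (Equiv.Perm (Fin (p ^ 2)))) :=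
    Cfsg.Agent.Lib.Involves.involves_iff.2 ⟨K, R, hR, e⟩
  have h2 : Cfsg.Agent.Lib.Involves.Involves X ↥(W : Subgroup (Equiv.Perm (Fin (p ^ 2)))) :=
    Cfsg.Agent.Lib.Involves.trans (Cfsg.Agent.Lib.Involves.of_surjective f hf) h1
  exact h W (Cfsg.Agent.Lib.Involves.involves_iff.1 h2)

theorem WFree.of_le {G : Type u} [Group G] {H K : Subgroup G} (h : WFree p ↥K) (hle : H ≤ K) :
    WFree p ↥H :=
  h.of_injective (Subgroup.inclusion hle) (Subgroup.inclusion_injective hle)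

theorem WFree.map {G : Type u} [Group G] {H : Type v} [Group H] (φ : G →* H) {K : Subgroup G}
    (h : WFree p ↥K) : WFree p ↥(K.map φ) :=
  h.of_surjective (φ.subgroupMap K) (φ.subgroupMap_surjective K)

end wfree

section hyp

variable {p : ℕ} {G : Type u} [Group G] {C D : Set G}

theorem Hyp.symm (h : Hyp p C D) : Hyp p D C where
  conjC := h.conjD
  conjD := h.conjC
  pair := fun d hd c hc => by
    rw [Set.pair_comm]
    exact h.pair c hc d hd
  free := fun d hd c hc => by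
    rw [Set.pair_comm]
    exact h.free c hc d hd

theorem Hyp.map {H : Type v} [Group H] (φ : G →* H) (hφ : Function.Surjective φ) (h : Hyp p C D) :
    Hyp p (φ '' C) (φ '' D) where
  conjC := by
    rintro g _ ⟨c, hc, rfl⟩
    obtain ⟨x, rfl⟩ := hφ g
    exact ⟨x * c * x⁻¹, h.conjC x c hc, by simp⟩
  conjD := by
    rintro g _ ⟨c, hc, rfl⟩
    obtain ⟨x, rfl⟩ := hφ g
    exact ⟨x * c * x⁻¹, h.conjD x c hc, by simp⟩
  pair := by
    rintro _ ⟨c, hc, rfl⟩ _ ⟨d, hd, rfl⟩
    rw [← closure_pair_map]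
    exact (h.pair c hc d hd).map φ
  free := by
    rintro _ ⟨c, hc, rfl⟩ _ ⟨d, hd, rfl⟩
    rw [← closure_pair_map]
    exact (h.free c hc d hd).map φ

/-- The hypotheses pass to preimages under injective homomorphisms. -/
theorem Hyp.comap {H : Type v} [Group H] (φ : H →* G) (hφ : Function.Injective φ) (h : Hyp p C D) :
    Hyp p (φ ⁻¹' C) (φ ⁻¹' D) where
  conjC := fun g c hc => by
    have := h.conjC (φ g) (φ c) hc
    simpa using this
  conjD := fun g c hc => by
    have := h.conjD (φ g) (φ c) hc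
    simpa using this
  pair := by
    intro c hc d hd
    have h1 := h.pair (φ c) hc (φ d) hd
    rw [← closure_pair_map] at h1
    exact h1.of_equiv (Subgroup.equivMapOfInjective _ φ hφ).symm
  free := by
    intro c hc d hd
    have h1 := h.free (φ c) hc (φ d) hd
    rw [← closure_pair_map] at h1
    have e := Subgroup.equivMapOfInjective (Subgroup.closure ({c, d} : Set H)) φ hφ
    exact h1.of_injective e.toMonoidHom e.injective

/-- The hypotheses pass to subsets of powers. -/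
theorem Hyp.mono (h : Hyp p C D) {C' D' : Set G} (hC' : ∀ g : G, ∀ c ∈ C', g * c * g⁻¹ ∈ C')
    (hD' : ∀ g : G, ∀ d ∈ D', g * d * g⁻¹ ∈ D')
    (hC : ∀ c ∈ C', ∃ c₀ ∈ C, c ∈ Subgroup.zpowers c₀)
    (hD : ∀ d ∈ D', ∃ d₀ ∈ D, d ∈ Subgroup.zpowers d₀) : Hyp p C' D' := by
  have key : ∀ c ∈ C', ∀ d ∈ D', ∃ c₀ ∈ C, ∃ d₀ ∈ D,
      Subgroup.closure ({c, d} : Set G) ≤ Subgroup.closure ({c₀, d₀} : Set G) := by
    intro c hc d hd
    obtain ⟨c₀, hc₀, hcc⟩ := hC c hc
    obtain ⟨d₀, hd₀, hdd⟩ := hD d hd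
    refine ⟨c₀, hc₀, d₀, hd₀, ?_⟩
    rw [Subgroup.closure_le]
    rintro x (rfl | rfl)
    · exact (Subgroup.zpowers_le.mpr (Subgroup.subset_closure (by simp))) hcc
    · exact (Subgroup.zpowers_le.mpr (Subgroup.subset_closure (by simp))) hdd
  refine ⟨hC', hD', ?_, ?_⟩
  · intro c hc d hd
    obtain ⟨c₀, hc₀, d₀, hd₀, hle⟩ := key c hc d hd
    exact (h.pair c₀ hc₀ d₀ hd₀).to_le hle
  · intro c hc d hd
    obtain ⟨c₀, hc₀, d₀, hd₀, hle⟩ := key c hc d hd
    exact (h.free c₀ hc₀ d₀ hd₀).of_le hle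

theorem Hyp.conjC' (h : Hyp p C D) (g : G) {c : G} (hc : c ∈ C) : g⁻¹ * c * g ∈ C := by
  simpa using h.conjC g⁻¹ c hc

theorem Hyp.conjD' (h : Hyp p C D) (g : G) {c : G} (hc : c ∈ D) : g⁻¹ * c * g ∈ D := by
  simpa using h.conjD g⁻¹ c hc

end hyp

section thm

variable {p : ℕ} {G : Type u} [Group G]

/-- The theorem for a subgroup of an arbitrary group. -/
theorem Thm.subgroup {H : Subgroup G} (hT : Thm p H) {C D : Set G} (h : Hyp p C D) {c d : G}
    (hc : c ∈ C) (hd : d ∈ D) (hcH : c ∈ H) (hdH : d ∈ H) :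
    (⟨c, hcH⟩⁻¹ * ⟨d, hdH⟩⁻¹ * ⟨c, hcH⟩ * ⟨d, hdH⟩ : H) ∈ Cfsg.pCore p H :=
  hT _ _ (h.comap H.subtype H.subtype_injective) ⟨c, hcH⟩ hc ⟨d, hdH⟩ hd

theorem Cfg.symm {S : Subgroup G} {C D : Set G} (h : Cfg p S C D) : Cfg p S D C where
  toHyp := h.toHyp.symm
  ordC := h.ordD
  ordD := h.ordC
  neC := h.neD
  neD := h.neC
  normal := h.normal
  simple := h.simple
  nc := h.nc
  dvd := h.dvd
  cent := h.cent
  ih := h.ih

end thm

end Cfsg.Agent.H533.Wf
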