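import Cfsg.Agent.H533.Wf.RedB
import Cfsg.Prelude.Def_Classification2
import Cfsg.Prelude.Def_LieTypeChar

/-!
# S3826: the dispatcher

`Rows3` : the rows for `p = 3`, one field per family; `s3826_of_rows3` : S3826 from the classification,
the weak rows for `p ≥ 5` and `Rows3`.
-/

set_option autoImplicit false

namespace Cfsg.Agent.H533.Wf

universe u

open Subgroup Cfsg Cfsg.Agent.H533.T5

/-- The family `P` of simple groups has its rows for `p = 3`. -/
def RF (P : ∀ (S : Type u) [Group S], Prop) : Prop :=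
  ∀ (S : Type u) [Group S] [Finite S] [IsSimpleGroup S], P S → WfRow.{u, u} 3 S

/-- The rows of the groups of exceptional type. -/
structure Exc3 : Prop where
  g2 : RF.{u} fun S _ => Lie.IsoChevG2 S
  f4 : RF.{u} fun S _ => Lie.IsoF4 S
  e6 : RF.{u} fun S _ => Lie.IsoChevE6 S
  e7 : RF.{u} fun S _ => Lie.IsoE7 S
  e8 : RF.{u} fun S _ => Lie.IsoE8 S
  twE6 : RF.{u} fun S _ => Lie.Iso2E6 S
  twD4 : RF.{u} fun S _ => Lie.Iso3D4 S
  sz : RF.{u} fun S _ => Lie.IsoSuzuki S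
  ree : RF.{u} fun S _ => Lie.IsoRee S
  twF4 : RF.{u} fun S _ => Lie.Iso2F4 S
  tits : RF.{u} fun S _ => Lie.IsoTits S

/-- The sporadic rows. -/
structure Spor3 : Prop where
  m11 : RF.{u} fun S _ => Spor.IsoM11 S
  m12 : RF.{u} fun S _ => Spor.IsoM12 S
  m22 : RF.{u} fun S _ => Spor.IsoM22 S
  m23 : RF.{u} fun S _ => Spor.IsoM23 S
  m24 : RF.{u} fun S _ => Spor.IsoM24 S
  j1 : RF.{u} fun S _ => Spor.IsoJ1 S
  j2 : RF.{u} fun S _ => Spor.IsoJ2 S
  j3 : RF.{u} fun S _ => Spor.IsoJ3 S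
  j4 : RF.{u} fun S _ => Spor.IsoJ4 S
  co1 : RF.{u} fun S _ => Spor.IsoCo1 S
  co2 : RF.{u} fun S _ => Spor.IsoCo2 S
  co3 : RF.{u} fun S _ => Spor.IsoCo3 S
  mcl : RF.{u} fun S _ => Spor.IsoMcL S
  hs : RF.{u} fun S _ => Spor.IsoHS S
  suz : RF.{u} fun S _ => Spor.IsoSuz S
  he : RF.{u} fun S _ => Spor.IsoHe S
  ru : RF.{u} fun S _ => Spor.IsoRu S
  on : RF.{u} fun S _ => Spor.IsoON S
  ly : RF.{u} fun S _ => Spor.IsoLy S
  fi22 : RF.{u} fun S _ => Spor.IsoFi22 S
  fi23 : RF.{u} fun S _ => Spor.IsoFi23 S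
  fi24 : RF.{u} fun S _ => Spor.IsoFi24' S
  hn : RF.{u} fun S _ => Spor.IsoHN S
  th : RF.{u} fun S _ => Spor.IsoTh S
  b : RF.{u} fun S _ => Spor.IsoB S
  m : RF.{u} fun S _ => Spor.IsoM S

/-- The rows for `p = 3`. -/
structure Rows3 : Prop where
  alt : RF.{u} fun S _ => IsAlternating S
  psl : RF.{u} fun S _ => IsPSL S
  psp : RF.{u} fun S _ => IsPSp S
  psu : RF.{u} fun S _ => IsPSU S
  odd : RF.{u} fun S _ => IsPOmegaOdd S
  plus : RF.{u} fun S _ => IsPOmegaPlus S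
  minus : RF.{u} fun S _ => IsPOmegaMinus S
  exc : Exc3.{u}
  spor : Spor3.{u}

theorem Exc3.all (R : Exc3.{u}) : RF.{u} fun S _ => IsExceptionalLieType S := by
  intro S _ _ _ h
  rcases h with h | h | h | h | h | h | h | h | h | h | h
  · exact R.g2 S h
  · exact R.f4 S h
  · exact R.e6 S h
  · exact R.e7 S h
  · exact R.e8 S h
  · exact R.twE6 S h
  · exact R.twD4 S h
  · exact R.sz S h
  · exact R.ree S h
  · exact R.twF4 S h
  · exact R.tits S h

theorem Spor3.all (R : Spor3.{u}) : RF.{u} fun S _ => IsSporadicGroup S := by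
  intro S _ _ _ h
  rcases h with h | h | h | h | h | h | h | h | h | h | h | h | h | h | h | h | h | h | h | h | h |
    h | h | h | h | h
  · exact R.m11 S h
  · exact R.m12 S h
  · exact R.m22 S h
  · exact R.m23 S h
  · exact R.m24 S h
  · exact R.j1 S h
  · exact R.j2 S h
  · exact R.j3 S h
  · exact R.j4 S h
  · exact R.co1 S h
  · exact R.co2 S h
  · exact R.co3 S h
  · exact R.mcl S h
  · exact R.hs S h
  · exact R.suz S h
  · exact R.he S h
  · exact R.ru S h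
  · exact R.on S h
  · exact R.ly S h
  · exact R.fi22 S h
  · exact R.fi23 S h
  · exact R.fi24 S h
  · exact R.hn S h
  · exact R.th S h
  · exact R.b S h
  · exact R.m S h

theorem Rows3.all (R : Rows3.{u}) (S : Type u) [Group S] [Finite S] [IsSimpleGroup S]
    (hna : ¬ IsMulCommutative S) (hK : IsKnownSimple' S) : WfRow.{u, u} 3 S := by
  rcases hK with h | h | h | h | h | h | h | h | h | h
  · exfalso
    apply hna
    have := Fact.mk (show (Nat.card S).Prime from h)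
    have : IsCyclic S := isCyclic_of_prime_card (p := Nat.card S) rfl
    let _ := IsCyclic.commGroup (α := S)
    exact ⟨⟨fun a b => mul_comm a b⟩⟩
  · exact R.alt S h
  · exact R.psl S h
  · exact R.psp S h
  · exact R.psu S h
  · exact R.odd S h
  · exact R.plus S h
  · exact R.minus S h
  · exact R.exc.all S h
  · exact R.spor.all S h

/-- **S3826** from the classification, the weak rows for `p ≥ 5` and `Rows3`. -/
theorem s3826_of_rows3 {p : ℕ} [hp : Fact p.Prime]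
    (hK : ∀ (S : Type u) [Group S] [Finite S] [IsSimpleGroup S], IsKnownSimple' S)
    (h5 : 5 ≤ p → ∀ (S : Type u) [Group S] [Finite S], IsSimpleGroup S → ¬ IsMulCommutative S →
      WRow p S)
    (h3 : Rows3.{u}) {G : Type u} [Group G] [Finite G] (C D : Set G)
    (hC : ∀ g : G, ∀ c ∈ C, g * c * g⁻¹ ∈ C) (hD : ∀ g : G, ∀ c ∈ D, g * c * g⁻¹ ∈ D)
    (h : ∀ c ∈ C, ∀ d ∈ D, IsPGroup p ↥(Subgroup.closure ({c, d} : Set G)) ∧
      ∀ W : Sylow p (Equiv.Perm (Fin (p ^ 2))),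
        ¬ Cfsg.Involves ↥(W : Subgroup (Equiv.Perm (Fin (p ^ 2))))
          ↥(Subgroup.closure ({c, d} : Set G))) :
    Subgroup.closure {x : G | ∃ c ∈ C, ∃ d ∈ D, x = c⁻¹ * d⁻¹ * c * d} ≤ Cfsg.pCore p G := by
  refine s3826_of (fun hp3 K _ _ hs hna _ => ?_) C D hC hD h
  by_cases hp5 : 5 ≤ p
  · exact WfRow.of_wrow (h5 hp5 K hs hna)
  · have hp' := hp.out
    have h4 : p = 3 ∨ p = 4 := by omega
    rcases h4 with rfl | rfl
    · exact h3.all K hna (hK K)
    · exfalso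
      revert hp'
      norm_num

end Cfsg.Agent.H533.Wf
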