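import Cfsg.Agent.H533.Wf.Kills

/-!
# The wreath-free lemma

If `c ^ p = 1`, `⟨c, d⟩` is a `p`-group in which `C_p ≀ C_p` is not involved then `d` lies in the
subgroup generated by the `c ^ j d c ^ -j`, `0 < j < p`.
-/

set_option autoImplicit false
set_option linter.unusedSectionVars false

namespace Cfsg.Agent.H533.Wf

universe u v

open Subgroup Cfsg Cfsg.Agent.H533.T5

section chain

/-- the powers modulo `p` -/
theorem pow_conj_add {X : Type u} [Group X] (c d : X) (i j : ℕ) :
    c ^ i * (c ^ j * d * (c ^ j)⁻¹) * (c ^ i)⁻¹ = c ^ (i + j) * d * (c ^ (i + j))⁻¹ := by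
  rw [pow_add]; group

theorem pow_mod_conj {X : Type u} [Group X] {c : X} {p : ℕ} (hc : c ^ p = 1) (n : ℕ) :
    c ^ (n % p) = c ^ n := by
  conv_rhs => rw [← Nat.mod_add_div n p, pow_add, pow_mul, hc, one_pow, mul_one]

theorem factorization_sq (p : ℕ) [hp : Fact p.Prime] : (Nat.factorial (p ^ 2)).factorization p = p + 1 := by
  rw [Nat.factorization_def _ hp.out, pow_two, padicValNat_factorial_mul]
  have h1 : padicValNat p (Nat.factorial p) = 1 := by
    have := padicValNat_factorial_mul (p := p) 1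
    rw [mul_one, Nat.factorial_one, padicValNat_one_right] at this
    omega
  omega

end chain

section group

variable {p : ℕ} [hp : Fact p.Prime] {X : Type u} [Group X] [Finite X]

/-- The group form. -/
theorem key_top {c d : X} (hc : c ^ p = 1) (hX : IsPGroup p X) (hW : WFree p X)
    (htop : Subgroup.closure ({c, d} : Set X) = ⊤) {K₁ : Subgroup X}
    (hK₁ : ∀ j, 0 < j → j < p → c ^ j * d * (c ^ j)⁻¹ ∈ K₁) : d ∈ K₁ := by
  classical
  by_contra hd
  have hp2 := hp.out.two_le
  set E : Set X := {x | ∃ j : ℕ, x = c ^ j * d * (c ^ j)⁻¹} with hE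
  set K : Subgroup X := Subgroup.closure E with hK
  have hdK : d ∈ K := Subgroup.subset_closure ⟨0, by simp⟩
  have hgen : ∀ j : ℕ, c ^ j * d * (c ^ j)⁻¹ ∈ K := fun j => Subgroup.subset_closure ⟨j, rfl⟩
  have hcE : ∀ x ∈ K, c * x * c⁻¹ ∈ K := by
    intro x hx
    induction hx using Subgroup.closure_induction with
    | mem x hx =>
      obtain ⟨j, rfl⟩ := hx
      have := pow_conj_add c d 1 j
      rw [pow_one] at this
      rw [this]
      exact hgen _
    | one => simp
    | mul x y _ _ hx hy =>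
      have : c * (x * y) * c⁻¹ = (c * x * c⁻¹) * (c * y * c⁻¹) := by group
      rw [this]; exact mul_mem hx hy
    | inv x _ hx =>
      have : c * x⁻¹ * c⁻¹ = (c * x * c⁻¹)⁻¹ := by group
      rw [this]; exact inv_mem hx
  have hcinv : c⁻¹ = c ^ (p - 1) := by
    rw [inv_eq_iff_mul_eq_one, ← pow_succ', Nat.sub_add_cancel hp.out.one_lt.le, hc]
  have hcpow : ∀ (n : ℕ), ∀ x ∈ K, c ^ n * x * (c ^ n)⁻¹ ∈ K := by
    intro n
    induction n with
    | zero => intro x hx; simpa using hx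
    | succ n ih =>
      intro x hx
      have : c ^ (n + 1) * x * (c ^ (n + 1))⁻¹ = c * (c ^ n * x * (c ^ n)⁻¹) * c⁻¹ := by
        rw [pow_succ']; group
      rw [this]
      exact hcE _ (ih x hx)
  have hcN : c ∈ Subgroup.normalizer (K : Set X) := by
    rw [Subgroup.mem_normalizer_iff]
    intro x
    refine ⟨hcE x, fun hx => ?_⟩
    have h1 := hcpow (p - 1) _ hx
    rw [← hcinv] at h1
    simpa [mul_assoc] using h1
  have hKn : K.Normal := by
    rw [← Subgroup.normalizer_eq_top_iff, eq_top_iff, ← htop, Subgroup.closure_le]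
    rintro x (rfl | rfl)
    · exact hcN
    · exact Subgroup.le_normalizer hdK
  -- the maximal subgroup
  have hKp : IsPGroup p K := hX.to_subgroup K
  obtain ⟨n, hn⟩ := IsPGroup.iff_card.mp hKp
  set L₁ : Subgroup K := K₁.subgroupOf K with hL₁
  have hL₁ne : L₁ ≠ ⊤ := by
    intro h
    have : (⟨d, hdK⟩ : K) ∈ L₁ := by rw [h]; exact Subgroup.mem_top _
    exact hd (Subgroup.mem_subgroupOf.mp this)
  obtain ⟨m, hm⟩ := IsPGroup.iff_card.mp (hKp.to_subgroup L₁)
  have hmn : m < n := by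
    by_contra hcon
    apply hL₁ne
    apply Subgroup.eq_top_of_card_eq
    have h1 := Subgroup.card_subgroup_dvd_card L₁
    rw [hm, hn] at h1 ⊢
    have h2 := (Nat.pow_dvd_pow_iff_le_right hp.out.one_lt).mp h1
    rw [le_antisymm h2 (not_lt.mp hcon)]
  obtain ⟨T, hT, hLT⟩ := Sylow.exists_subgroup_card_pow_prime_le p (n := m) (m := n - 1)
    (by rw [hn]; exact pow_dvd_pow _ (Nat.sub_le _ _)) L₁ hm (by omega)
  have hTidx : T.index = p := by
    have h1 := Subgroup.card_mul_index T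
    rw [hT, hn] at h1
    have h2 : p ^ n = p ^ (n - 1) * p := by
      rw [← pow_succ]; congr 1; omega
    rw [h2] at h1
    exact Nat.eq_of_mul_eq_mul_left (pow_pos hp.out.pos _) h1
  have hTn : T.Normal := by
    apply Subgroup.normal_of_index_eq_minFac_card
    rw [hTidx, hn]
    exact (Nat.Prime.pow_minFac hp.out (by omega)).symm
  set M : Subgroup X := T.map K.subtype with hM
  have hMK : M ≤ K := Subgroup.map_subtype_le T
  have hMj : ∀ j, 0 < j → j < p → c ^ j * d * (c ^ j)⁻¹ ∈ M := by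
    intro j h0 hj
    refine ⟨⟨_, hgen j⟩, hLT ?_, rfl⟩
    exact Subgroup.mem_subgroupOf.mpr (hK₁ j h0 hj)
  have hMmod : ∀ j : ℕ, ¬ p ∣ j → c ^ j * d * (c ^ j)⁻¹ ∈ M := by
    intro j hj
    rw [← pow_mod_conj hc j]
    exact hMj _ (Nat.pos_of_ne_zero fun h => hj (Nat.dvd_of_mod_eq_zero h))
      (Nat.mod_lt _ hp.out.pos)
  have hdM : d ∉ M := by
    intro hdM
    have h1 : K ≤ M := by
      rw [hK, Subgroup.closure_le]
      rintro x ⟨j, rfl⟩
      by_cases hj : p ∣ j
      · obtain ⟨k, rfl⟩ := hj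
        rw [pow_mul, hc, one_pow]
        simpa using hdM
      · exact hMmod j hj
    have h2 : T = ⊤ := by
      rw [eq_top_iff]
      rintro ⟨x, hx⟩ -
      obtain ⟨y, hy, hyx⟩ := h1 hx
      have : y = ⟨x, hx⟩ := Subtype.ext hyx
      rwa [← this]
    rw [h2, Subgroup.index_top] at hTidx
    omega
  have hKM : ∀ x ∈ K, ∀ y ∈ M, x * y * x⁻¹ ∈ M := by
    rintro x hx _ ⟨y, hy, rfl⟩
    exact ⟨⟨x, hx⟩ * y * ⟨x, hx⟩⁻¹, hTn.conj_mem y hy ⟨x, hx⟩, rfl⟩
  have hcK : c ∉ K := by
    intro hcK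
    have h1 := hMj 1 one_pos hp.out.one_lt
    have h2 := hKM c⁻¹ (inv_mem hcK) _ h1
    apply hdM
    rw [pow_one] at h2
    have : c⁻¹ * (c * d * c⁻¹) * c⁻¹⁻¹ = d := by group
    rwa [this] at h2
  -- indices
  have hMidx : M.relIndex K = p := by
    rw [← hTidx, hM, Subgroup.relIndex, Subgroup.subgroupOf, Subgroup.comap_map_eq_self_of_injective
      K.subtype_injective]
  have hKidx : K.index = p := by
    have h1 : ∀ q : X ⧸ K, q ∈ (Subgroup.zpowers (QuotientGroup.mk c : X ⧸ K) :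
        Subgroup (X ⧸ K)) := by
      have h2 : (Subgroup.zpowers (QuotientGroup.mk' K c)).comap (QuotientGroup.mk' K) = ⊤ := by
        rw [eq_top_iff, ← htop, Subgroup.closure_le]
        rintro x (rfl | rfl)
        · exact Subgroup.mem_zpowers _
        · have h9 : QuotientGroup.mk' K x = 1 := (QuotientGroup.eq_one_iff x).mpr hdK
          rw [SetLike.mem_coe, Subgroup.mem_comap, h9]; exact one_mem _
      intro q
      obtain ⟨x, rfl⟩ := QuotientGroup.mk'_surjective K q
      have h9 : x ∈ (Subgroup.zpowers (QuotientGroup.mk' K c)).comap (QuotientGroup.mk' K) := by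
        rw [h2]; exact Subgroup.mem_top x
      exact h9
    have h3 : Nat.card (X ⧸ K) = orderOf (QuotientGroup.mk c : X ⧸ K) := by
      rw [← Nat.card_zpowers]
      have : Subgroup.zpowers (QuotientGroup.mk c : X ⧸ K) = ⊤ := by
        rw [eq_top_iff]; intro q _; exact h1 q
      rw [this, Subgroup.card_top]
    have h4 : orderOf (QuotientGroup.mk c : X ⧸ K) = p := by
      apply orderOf_eq_prime
      · rw [← QuotientGroup.mk_pow, hc]; rfl
      · intro h
        exact hcK ((QuotientGroup.eq_one_iff c).mp h)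
    rw [Subgroup.index, h3, h4]
  have hMX : M.index = p ^ 2 := by
    rw [← Subgroup.relIndex_mul_index hMK, hMidx, hKidx, pow_two]
  -- the chain of intersections
  let Mj : ℕ → Subgroup X := fun j => M.map (MulAut.conj (c ^ j)).toMonoidHom
  have hmemMj : ∀ (j : ℕ) (x : X), x ∈ Mj j ↔ (c ^ j)⁻¹ * x * c ^ j ∈ M := by
    intro j x
    constructor
    · rintro ⟨y, hy, rfl⟩
      have : (c ^ j)⁻¹ * (MulAut.conj (c ^ j)).toMonoidHom y * c ^ j = y := by
        simp only [MulEquiv.coe_toMonoidHom, MulAut.conj_apply]; group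
      rw [this]; exact hy
    · intro h
      refine ⟨_, h, ?_⟩
      simp only [MulEquiv.coe_toMonoidHom, MulAut.conj_apply]; group
  have hNj : ∀ j, M.normalCore ≤ Mj j := by
    intro j x hx
    rw [hmemMj]
    have h1 := (Subgroup.normalCore_normal M).conj_mem x hx (c ^ j)⁻¹
    rw [inv_inv] at h1
    exact Subgroup.normalCore_le M h1
  have hchain : ∀ i : ℕ, i ≤ p → ∃ N : Subgroup X, M.normalCore ≤ N ∧ N ≤ K ∧
      (∀ j, i ≤ j → j < p → c ^ j * d * (c ^ j)⁻¹ ∈ N) ∧ p ^ i * Nat.card N ≤ Nat.card K := by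
    intro i
    induction i with
    | zero =>
      intro _
      exact ⟨K, (Subgroup.normalCore_le M).trans hMK, le_rfl, fun j _ _ => hgen j, by simp⟩
    | succ i ih =>
      intro hi
      obtain ⟨N, h1, h2, h3, h4⟩ := ih (by omega)
      refine ⟨N ⊓ Mj i, le_inf h1 (hNj i), inf_le_left.trans h2, ?_, ?_⟩
      · intro j hij hj
        refine ⟨h3 j (by omega) hj, ?_⟩
        show c ^ j * d * (c ^ j)⁻¹ ∈ Mj i
        rw [hmemMj]
        have h5 : (c ^ i)⁻¹ * (c ^ j * d * (c ^ j)⁻¹) * c ^ i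
            = c ^ (j - i) * d * (c ^ (j - i))⁻¹ := by
          have : c ^ j = c ^ i * c ^ (j - i) := by rw [← pow_add]; congr 1; omega
          rw [this]; group
        rw [h5]
        exact hMj _ (by omega) (by omega)
      · have hlt : N ⊓ Mj i < N := by
          refine lt_of_le_of_ne inf_le_left ?_
          intro h
          have h5 : c ^ i * d * (c ^ i)⁻¹ ∈ N ⊓ Mj i := by rw [h]; exact h3 i le_rfl (by omega)
          have h6 := (hmemMj i _).mp h5.2
          apply hdM
          have : (c ^ i)⁻¹ * (c ^ i * d * (c ^ i)⁻¹) * c ^ i = d := by group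
          rwa [this] at h6
        -- the index is divisible by `p`
        have h5 : (N ⊓ Mj i).relIndex N ≠ 1 := by
          intro h
          exact hlt.not_ge (Subgroup.relIndex_eq_one.mp h)
        have h6 : p ≤ (N ⊓ Mj i).relIndex N := by
          obtain ⟨k, hk⟩ := (hX.to_subgroup N).index ((N ⊓ Mj i).subgroupOf N)
          have h7 : (N ⊓ Mj i).relIndex N = p ^ k := hk
          rw [h7] at h5 ⊢
          rcases Nat.eq_zero_or_pos k with h0 | h0
          · rw [h0, pow_zero] at h5; exact absurd rfl h5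
          · calc p = p ^ 1 := (pow_one p).symm
              _ ≤ p ^ k := Nat.pow_le_pow_right hp.out.pos h0
        have h7 : Nat.card ↥(N ⊓ Mj i) * (N ⊓ Mj i).relIndex N = Nat.card N := by
          have h8 := Subgroup.card_mul_index ((N ⊓ Mj i).subgroupOf N)
          rwa [Nat.card_congr (Subgroup.subgroupOfEquivOfLe
            (inf_le_left : N ⊓ Mj i ≤ N)).toEquiv] at h8
        calc p ^ (i + 1) * Nat.card ↥(N ⊓ Mj i) = p ^ i * (Nat.card ↥(N ⊓ Mj i) * p) := by ring
          _ ≤ p ^ i * (Nat.card ↥(N ⊓ Mj i) * (N ⊓ Mj i).relIndex N) :=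
            Nat.mul_le_mul_left _ (Nat.mul_le_mul_left _ h6)
          _ = p ^ i * Nat.card N := by rw [h7]
          _ ≤ Nat.card K := h4
  obtain ⟨N, hN1, -, -, hN4⟩ := hchain p le_rfl
  have hcore : p ^ (p + 1) * Nat.card M.normalCore ≤ Nat.card X := by
    calc p ^ (p + 1) * Nat.card M.normalCore = (p ^ p * Nat.card M.normalCore) * p := by ring
      _ ≤ (p ^ p * Nat.card N) * p := by
        refine Nat.mul_le_mul_right _ (Nat.mul_le_mul_left _ ?_)
        exact Nat.card_le_card_of_injective _ (Subgroup.inclusion_injective hN1)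
      _ ≤ Nat.card K * p := Nat.mul_le_mul_right _ hN4
      _ = Nat.card X := by rw [← hKidx, Subgroup.card_mul_index]
  -- the permutation representation
  let φ : X →* Equiv.Perm (X ⧸ M) := MulAction.toPermHom X (X ⧸ M)
  have hker : φ.ker = M.normalCore := (Subgroup.normalCore_eq_ker M).symm
  have hcardΩ : Nat.card (X ⧸ M) = p ^ 2 := hMX
  have e : (X ⧸ M) ≃ Fin (p ^ 2) := Finite.equivFinOfCardEq hcardΩ
  let ψ : X →* Equiv.Perm (Fin (p ^ 2)) := e.permCongrHom.toMonoidHom.comp φ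
  have hψker : ψ.ker = M.normalCore := by
    rw [← hker]
    ext x
    simp only [ψ, MonoidHom.mem_ker, MonoidHom.comp_apply, MulEquiv.coe_toMonoidHom,
      EmbeddingLike.map_eq_one_iff]
  have hrangeP : IsPGroup p ψ.range := hX.of_surjective ψ.rangeRestrict ψ.rangeRestrict_surjective
  obtain ⟨k, hk⟩ := IsPGroup.iff_card.mp hrangeP
  have hcardPerm : Nat.card (Equiv.Perm (Fin (p ^ 2))) = Nat.factorial (p ^ 2) := by
    rw [Nat.card_perm, Nat.card_fin]
  have hk1 : k ≤ p + 1 := by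
    have h1 := Subgroup.card_subgroup_dvd_card ψ.range
    rw [hk, hcardPerm] at h1
    have h2 := (Nat.Prime.pow_dvd_iff_le_factorization hp.out (Nat.factorial_ne_zero _)).mp h1
    rwa [factorization_sq] at h2
  have hk2 : p + 1 ≤ k := by
    have h1 : Nat.card ψ.range * Nat.card M.normalCore = Nat.card X := by
      rw [← hψker, mul_comm, ← Subgroup.card_mul_index ψ.ker, Subgroup.index_ker]
    rw [hk] at h1
    have h2 : p ^ (p + 1) * Nat.card M.normalCore ≤ p ^ k * Nat.card M.normalCore := by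
      rw [h1]; exact hcore
    have h3 := Nat.le_of_mul_le_mul_right h2 Nat.card_pos
    exact (Nat.pow_le_pow_iff_right hp.out.one_lt).mp h3
  have hk3 : k = p + 1 := le_antisymm hk1 hk2
  let W : Sylow p (Equiv.Perm (Fin (p ^ 2))) := Sylow.ofCard ψ.range (by
    rw [hk, hcardPerm, factorization_sq, hk3])
  have hWr : (W : Subgroup (Equiv.Perm (Fin (p ^ 2)))) = ψ.range := Sylow.coe_ofCard _ _
  refine hW W ?_
  have h1 : Cfsg.Agent.Lib.Involves.Involves X
      ↥(W : Subgroup (Equiv.Perm (Fin (p ^ 2)))) := by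
    rw [hWr]
    exact Cfsg.Agent.Lib.Involves.of_surjective ψ.rangeRestrict ψ.rangeRestrict_surjective
  exact Cfsg.Agent.Lib.Involves.involves_iff.1 h1

/-- **The key lemma**: if `c ^ p = 1` and `⟨c, d⟩` is a `p`-group in which `C_p ≀ C_p` is not
involved then `d` lies in every subgroup containing the `c ^ j d c ^ -j`, `0 < j < p`. -/
theorem key {G : Type v} [Group G] [Finite G] {c d : G} (hc : c ^ p = 1)
    (hX : IsPGroup p ↥(Subgroup.closure ({c, d} : Set G)))
    (hW : WFree p ↥(Subgroup.closure ({c, d} : Set G))) {K₁ : Subgroup G}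
    (hK₁ : ∀ j, 0 < j → j < p → c ^ j * d * (c ^ j)⁻¹ ∈ K₁) : d ∈ K₁ := by
  set H : Subgroup G := Subgroup.closure ({c, d} : Set G) with hH
  have hcH : c ∈ H := Subgroup.subset_closure (Set.mem_insert _ _)
  have hdH : d ∈ H := Subgroup.subset_closure (Set.mem_insert_of_mem _ rfl)
  have htop : Subgroup.closure ({⟨c, hcH⟩, ⟨d, hdH⟩} : Set H) = ⊤ := by
    have h1 : (Subgroup.closure ({⟨c, hcH⟩, ⟨d, hdH⟩} : Set H)).map H.subtype = H := by
      rw [MonoidHom.map_closure, Set.image_pair]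
      rfl
    rw [eq_top_iff]
    rintro ⟨x, hx⟩ -
    rw [← h1] at hx
    obtain ⟨y, hy, hyx⟩ := hx
    have : y = ⟨x, by rw [← h1]; exact ⟨y, hy, hyx⟩⟩ := Subtype.ext hyx
    rwa [← this]
  have h := key_top (p := p) (c := (⟨c, hcH⟩ : H)) (d := ⟨d, hdH⟩) (Subtype.ext hc) hX hW htop
    (K₁ := K₁.subgroupOf H) (fun j h0 hj => Subgroup.mem_subgroupOf.mpr (hK₁ j h0 hj))
  exact Subgroup.mem_subgroupOf.mp h

/-- The key lemma for `p = 3`. -/
theorem key3 {G : Type v} [Group G] [Finite G] {c d : G} (hc : c ^ 3 = 1)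
    (hX : IsPGroup 3 ↥(Subgroup.closure ({c, d} : Set G)))
    (hW : WFree 3 ↥(Subgroup.closure ({c, d} : Set G))) {K₁ : Subgroup G}
    (h1 : c * d * c⁻¹ ∈ K₁) (h2 : c⁻¹ * d * c ∈ K₁) : d ∈ K₁ := by
  haveI : Fact (Nat.Prime 3) := ⟨Nat.prime_three⟩
  refine key (p := 3) hc hX hW fun j h0 hj => ?_
  have hj' : j = 1 ∨ j = 2 := by omega
  rcases hj' with rfl | rfl
  · simpa using h1
  · have hcc : c ^ 2 = c⁻¹ := by
      rw [eq_inv_iff_mul_eq_one, ← pow_succ, hc]
    rw [hcc, inv_inv]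
    exact h2

/-- The key lemma for two commuting fixers: `c ^ p = 1`, `d` is not in a proper subgroup
generated by the others. -/
theorem Hyp.key {G : Type v} [Group G] [Finite G] {C D : Set G} (h : Hyp p C D) {c d : G}
    (hc : c ∈ C) (hd : d ∈ D) (hcp : c ^ p = 1) {K₁ : Subgroup G}
    (hK₁ : ∀ j, 0 < j → j < p → c ^ j * d * (c ^ j)⁻¹ ∈ K₁) : d ∈ K₁ :=
  Wf.key hcp (h.pair c hc d hd) (h.free c hc d hd) hK₁

theorem Hyp.key3 {G : Type v} [Group G] [Finite G] {C D : Set G} (h : Hyp 3 C D) {c d : G}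
    (hc : c ∈ C) (hd : d ∈ D) (hcp : c ^ 3 = 1) {K₁ : Subgroup G}
    (h1 : c * d * c⁻¹ ∈ K₁) (h2 : c⁻¹ * d * c ∈ K₁) : d ∈ K₁ :=
  Wf.key3 hcp (h.pair c hc d hd) (h.free c hc d hd) h1 h2

end group

end Cfsg.Agent.H533.Wf
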