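import Cfsg.Agent.H533.Wf.Key
import Mathlib.GroupTheory.GroupAction.Primitive

/-!
# More kills for the minimal configurations of S3826

* `Cfg.false_of_pprime` (K1): `c`, `d` normalise a `p'`-subgroup `R`, `r ∈ R` and `c` does not commute with
  `r⁻¹ (d r d⁻¹)`;
* `Cfg.key3`, `Cfg.key3_smul` (K2): `p = 3`: `d` fixes `c y` and `c⁻¹ y` implies `d` fixes `y`, for every `G`-set;
* `Cfg.false_of_local_set` (K3): `c`, `d ∈ H` proper, `H` transitive on `Ω`, `p ∤ |Ω|`, `⟨c^H⟩` transitive on `Ω`,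
  `d` not trivial on `Ω`; `Cfg.false_of_primitive`;
* `Hyp.false_of_fix` (K4): `G` transitive on `Ω`, `p ∤ |Ω|`, `|Fix c| |Fix d| < |Ω|`;
* `Cfg.false_of_perfect` (K5): `E ⊴ H` perfect, `O_p(E)` central, `[E, d] = E`, `c ∉ C(E)`.
-/

set_option autoImplicit false
set_option linter.unusedSectionVars false

namespace Cfsg.Agent.H533.Wf

universe u v

open Subgroup Cfsg Cfsg.Agent.H533.T5

open scoped commutatorElement Pointwise

variable {p : ℕ} {G : Type u} [Group G] [Finite G] {S : Subgroup G} {C D : Set G}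

section pprime

/-- A nontrivial `p'`-subgroup is not normal. -/
theorem Cfg.normalizer_ne_top [hp : Fact p.Prime] (h : Cfg p S C D) {R : Subgroup G}
    (hR : (Nat.card R).Coprime p) (hR1 : R ≠ ⊥) : Subgroup.normalizer (R : Set G) ≠ ⊤ := by
  intro hN
  have hRn : R.Normal := Subgroup.normalizer_eq_top_iff.mp hN
  have hSn := h.normal
  have hn : ((R ⊓ S).subgroupOf S).Normal := by
    have : (R ⊓ S).Normal := inferInstance
    infer_instance
  have hs := h.simple
  rcases hn.eq_bot_or_eq_top with h1 | h1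
  · rw [Subgroup.subgroupOf_eq_bot] at h1
    have h2 : Disjoint R S := by
      rw [disjoint_iff, eq_bot_iff]
      intro x hx
      exact (disjoint_iff_inf_le.mp h1) ⟨hx, hx.2⟩
    apply hR1
    rw [eq_bot_iff, ← h.cent]
    intro r hr
    rw [Subgroup.mem_centralizer_iff]
    intro s hs
    exact (Subgroup.commute_of_normal_of_disjoint _ _ hRn hSn h2 r s hr hs).eq.symm
  · have h2 : S ≤ R := (Subgroup.subgroupOf_eq_top.mp h1).trans inf_le_left
    have h3 : p ∣ Nat.card R := h.dvd.trans (Subgroup.card_dvd_of_le h2)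
    have h4 := Nat.dvd_gcd h3 (dvd_refl p)
    rw [hR] at h4
    exact hp.out.one_lt.ne' (Nat.dvd_one.mp h4)

/-- (K1), positive form -/
theorem Cfg.commute_comm [hp : Fact p.Prime] (h : Cfg p S C D) {R : Subgroup G}
    (hR : (Nat.card R).Coprime p) {c d : G} (hc : c ∈ C) (hd : d ∈ D)
    (hcR : c ∈ Subgroup.normalizer (R : Set G)) (hdR : d ∈ Subgroup.normalizer (R : Set G))
    {r : G} (hr : r ∈ R) : Commute c (r⁻¹ * (d * r * d⁻¹)) := by
  by_cases hR1 : R = ⊥
  · rw [hR1, Subgroup.mem_bot] at hr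
    subst hr
    simp
  have hRN := h.normalizer_ne_top hR hR1
  set N := Subgroup.normalizer (R : Set G) with hN
  have hRle : R ≤ N := Subgroup.le_normalizer
  -- the element `u`
  set u : G := r⁻¹ * (d * r * d⁻¹) with hu
  have huR : u ∈ R := mul_mem (inv_mem hr) ((Subgroup.mem_normalizer_iff.mp hdR r).mp hr)
  -- the conjugate of `d`
  set s : G := d * r * d⁻¹ with hs
  have hsR : s ∈ R := (Subgroup.mem_normalizer_iff.mp hdR r).mp hr
  have hd' : s⁻¹ * d * s⁻¹⁻¹ ∈ D := h.conjD s⁻¹ d hd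
  have hdu : s⁻¹ * d * s⁻¹⁻¹ = d * u := by
    rw [hu, hs]; group
  rw [hdu] at hd'
  have hd'N : d * u ∈ N := mul_mem hdR (hRle huR)
  have h1 := h.local_mem hRN hc hd hcR hdR
  have h2 := h.local_mem hRN hc hd' hcR hd'N
  have h3 := h.centralizes hR hRN hc hd hcR hdR
  set x : G := c⁻¹ * d⁻¹ * c * d with hx
  have h4 : c⁻¹ * (d * u)⁻¹ * c * (d * u) = (c⁻¹ * u⁻¹ * c * u) * x := by
    have h5 : u * x = x * u := Subgroup.mem_centralizer_iff.mp h3 u huR
    calc c⁻¹ * (d * u)⁻¹ * c * (d * u) = (c⁻¹ * u⁻¹ * c) * (x * u) := by rw [hx]; group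
      _ = (c⁻¹ * u⁻¹ * c) * (u * x) := by rw [h5]
      _ = _ := by group
  rw [h4] at h2
  have h5 : c⁻¹ * u⁻¹ * c * u ∈ (Cfsg.pCore p N).map N.subtype := by
    have := mul_mem h2 (inv_mem h1)
    rwa [mul_assoc, mul_inv_cancel, mul_one] at this
  have h6 : c⁻¹ * u⁻¹ * c * u ∈ R := by
    refine mul_mem ?_ huR
    have := (Subgroup.mem_normalizer_iff.mp (inv_mem hcR) u⁻¹).mp (inv_mem huR)
    rwa [inv_inv] at this
  have hOp : IsPGroup p ((Cfsg.pCore p N).map N.subtype) :=
    (Lib.Cores.pCore_isPGroup (G := N) p).map _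
  have hdis : c⁻¹ * u⁻¹ * c * u = 1 := by
    have h7 : orderOf (c⁻¹ * u⁻¹ * c * u) = 1 := by
      obtain ⟨k, hk⟩ := (IsPGroup.iff_orderOf.mp hOp) ⟨_, h5⟩
      rw [Subgroup.orderOf_mk] at hk
      have h8 : orderOf (c⁻¹ * u⁻¹ * c * u) ∣ Nat.card R := Subgroup.orderOf_dvd_natCard _ h6
      exact Nat.eq_one_of_dvd_coprimes (hR.pow_right k) h8 (by rw [hk])
    exact orderOf_eq_one_iff.mp h7
  show c * u = u * c
  have h8 : u * c * (c⁻¹ * u⁻¹ * c * u) = c * u := by group
  rw [← h8, hdis, mul_one]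

/-- **(K1)** -/
theorem Cfg.false_of_pprime [hp : Fact p.Prime] (h : Cfg p S C D) {R : Subgroup G}
    (hR : (Nat.card R).Coprime p) {c d : G} (hc : c ∈ C) (hd : d ∈ D)
    (hcR : c ∈ Subgroup.normalizer (R : Set G)) (hdR : d ∈ Subgroup.normalizer (R : Set G))
    {r : G} (hr : r ∈ R) (hne : ¬ Commute c (r⁻¹ * (d * r * d⁻¹))) : False :=
  hne (h.commute_comm hR hc hd hcR hdR hr)

end pprime

section keythree

/-- **(K2)** -/
theorem Cfg.key3 {S : Subgroup G} (h : Cfg 3 S C D) {c d : G} (hc : c ∈ C) (hd : d ∈ D)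
    {K₁ : Subgroup G} (h1 : c * d * c⁻¹ ∈ K₁) (h2 : c⁻¹ * d * c ∈ K₁) : d ∈ K₁ :=
  h.toHyp.key3 hc hd (by rw [← h.ordC c hc, pow_orderOf_eq_one]) h1 h2

/-- **(K2)**, for `G`-sets -/
theorem Cfg.key3_smul {S : Subgroup G} (h : Cfg 3 S C D) {Ω : Type*} [MulAction G Ω] {c d : G}
    (hc : c ∈ C) (hd : d ∈ D) {y : Ω} (h1 : d • c • y = c • y) (h2 : d • c⁻¹ • y = c⁻¹ • y) :
    d • y = y := by
  refine h.key3 (K₁ := MulAction.stabilizer G y) hc hd ?_ ?_
  · rw [MulAction.mem_stabilizer_iff, mul_smul, mul_smul, h2, smul_inv_smul]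
  · rw [MulAction.mem_stabilizer_iff, mul_smul, mul_smul, h1, inv_smul_smul]

end keythree

section fix

open MulAction

/-- **(K4)** -/
theorem Hyp.false_of_fix [hp : Fact p.Prime] (h : Hyp p C D) {Ω : Type*} [Finite Ω]
    [MulAction G Ω] [MulAction.IsPretransitive G Ω] (hΩ : ¬ p ∣ Nat.card Ω) {c d : G}
    (hc : c ∈ C) (hd : d ∈ D)
    (hlt : Nat.card (fixedBy Ω c) * Nat.card (fixedBy Ω d) < Nat.card Ω) : False := by
  classical
  have hΩ0 : Nonempty Ω := by
    by_contra hne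
    rw [not_nonempty_iff] at hne
    rw [Nat.card_of_isEmpty] at hΩ
    exact hΩ (dvd_zero _)
  -- common fixed points
  have key : ∀ g : G, ∃ ab : fixedBy Ω c × fixedBy Ω d, g • (ab.2 : Ω) = ab.1 := by
    intro g
    have hpg : IsPGroup p ↥(Subgroup.closure ({c, g * d * g⁻¹} : Set G)) :=
      h.pair c hc _ (h.conjD g d hd)
    have hfix := hpg.nonempty_fixed_point_of_prime_not_dvd_card Ω hΩ
    obtain ⟨w, hw⟩ := hfix
    have h1 : c • w = w :=
      hw ⟨c, Subgroup.subset_closure (by simp)⟩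
    have h2 : (g * d * g⁻¹) • w = w :=
      hw ⟨g * d * g⁻¹, Subgroup.subset_closure (by simp)⟩
    refine ⟨⟨⟨w, h1⟩, ⟨g⁻¹ • w, ?_⟩⟩, ?_⟩
    · rw [mem_fixedBy]
      rw [mul_smul, mul_smul] at h2
      exact (smul_eq_iff_eq_inv_smul g).mp h2
    · exact smul_inv_smul g w
  choose f hf using key
  -- the fibres
  obtain ⟨ω⟩ := hΩ0
  have hfib : ∀ ab : fixedBy Ω c × fixedBy Ω d,
      Nat.card {g : G // f g = ab} ≤ Nat.card (stabilizer G ω) := by
    intro ab
    obtain ⟨k, hk⟩ := exists_smul_eq G ω (ab.2 : Ω)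
    by_cases hne : Nonempty {g : G // f g = ab}
    · obtain ⟨g0, hg0⟩ := hne
      refine Nat.card_le_card_of_injective
        (fun g => (⟨(g0 * k)⁻¹ * (g.1 * k), ?_⟩ : stabilizer G ω)) ?_
      · rw [mem_stabilizer_iff, mul_smul, mul_smul, hk]
        have e1 : g.1 • (ab.2 : Ω) = ab.1 := by
          have := hf g.1
          rwa [g.2] at this
        have e2 : g0 • (ab.2 : Ω) = ab.1 := by
          have := hf g0
          rwa [hg0] at this
        rw [e1, ← e2, ← hk, inv_smul_eq_iff, mul_smul]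
      · intro g g' hgg
        have := congrArg Subtype.val hgg
        exact Subtype.ext (mul_right_cancel (mul_left_cancel this))
    · rw [not_nonempty_iff] at hne
      rw [Nat.card_of_isEmpty]
      exact Nat.zero_le _
  have hcard : Nat.card G ≤ Nat.card (fixedBy Ω c) * Nat.card (fixedBy Ω d) *
      Nat.card (stabilizer G ω) := by
    have : Fintype (fixedBy Ω c × fixedBy Ω d) := Fintype.ofFinite _
    have : ∀ ab, Fintype {g : G // f g = ab} := fun ab => Fintype.ofFinite _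
    calc Nat.card G = Nat.card (Σ ab : fixedBy Ω c × fixedBy Ω d, {g : G // f g = ab}) :=
          (Nat.card_congr (Equiv.sigmaFiberEquiv f)).symm
      _ = ∑ ab : fixedBy Ω c × fixedBy Ω d, Nat.card {g : G // f g = ab} := Nat.card_sigma
      _ ≤ ∑ _ab : fixedBy Ω c × fixedBy Ω d, Nat.card (stabilizer G ω) :=
          Finset.sum_le_sum fun ab _ => hfib ab
      _ = _ := by
        rw [Finset.sum_const, Finset.card_univ, smul_eq_mul, ← Nat.card_eq_fintype_card,
          Nat.card_prod]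
  have hidx : Nat.card Ω * Nat.card (stabilizer G ω) = Nat.card G := by
    rw [mul_comm, ← Subgroup.card_mul_index (stabilizer G ω), index_stabilizer_of_transitive]
  rw [← hidx] at hcard
  exact absurd (Nat.le_of_mul_le_mul_right hcard Nat.card_pos) (not_le.mpr hlt)

end fix

section localset

open MulAction

/-- a normal `p`-subgroup of a transitive group of degree prime to `p` is trivial on the points -/
theorem pCore_smul [hp : Fact p.Prime] {H : Type*} [Group H] [Finite H] {Ω : Type*} [Finite Ω]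
    [MulAction H Ω] [MulAction.IsPretransitive H Ω] (hΩ : ¬ p ∣ Nat.card Ω) {x : H}
    (hx : x ∈ Cfsg.pCore p H) (a : Ω) : x • a = a := by
  have hOp : IsPGroup p (Cfsg.pCore p H) := Lib.Cores.pCore_isPGroup p
  have hOn : (Cfsg.pCore p H).Normal := Lib.Cores.pCore_normal p
  obtain ⟨w, hw⟩ := hOp.nonempty_fixed_point_of_prime_not_dvd_card Ω hΩ
  obtain ⟨g, rfl⟩ := exists_smul_eq H w a
  have h1 : g⁻¹ * x * g ∈ Cfsg.pCore p H := by
    have := hOn.conj_mem x hx g⁻¹
    rwa [inv_inv] at this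
  have h2 : (g⁻¹ * x * g) • w = w := hw ⟨_, h1⟩
  rw [mul_smul, mul_smul, inv_smul_eq_iff] at h2
  exact h2

/-- **(K3)** -/
theorem Cfg.false_of_local_set [hp : Fact p.Prime] (h : Cfg p S C D) {H : Subgroup G}
    (hH : H ≠ ⊤) {Ω : Type*} [Finite Ω] [MulAction H Ω] [MulAction.IsPretransitive H Ω]
    (hΩ : ¬ p ∣ Nat.card Ω) {c d : H} (hc : (c : G) ∈ C) (hd : (d : G) ∈ D)
    (hA : ∀ a b : Ω, ∃ g ∈ Subgroup.normalClosure ({c} : Set H), g • a = b)
    (hne : ∃ a : Ω, d • a ≠ a) : False := by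
  obtain ⟨a, ha⟩ := hne
  apply ha
  -- a fixed point of `d`
  have hz : IsPGroup p (Subgroup.zpowers d) := by
    refine IsPGroup.of_card (n := 1) ?_
    rw [Nat.card_zpowers, pow_one, ← h.ordD _ hd, Subgroup.orderOf_coe]
  obtain ⟨w, hw⟩ := hz.nonempty_fixed_point_of_prime_not_dvd_card Ω hΩ
  have hdw : d • w = w := hw ⟨d, Subgroup.mem_zpowers d⟩
  -- the elements of `⟨c ^ H⟩` commute with `d` on the points
  let A : Subgroup H :=
    { carrier := {g | ∀ b : Ω, d • g • b = g • d • b}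
      one_mem' := fun b => by rw [one_smul, one_smul]
      mul_mem' := fun {x y} hx hy b => by rw [mul_smul, hx, hy, mul_smul]
      inv_mem' := fun {x} hx b => by
        have := hx (x⁻¹ • b)
        rw [smul_inv_smul] at this
        rw [this, inv_smul_smul] }
  have hA' : Subgroup.normalClosure ({c} : Set H) ≤ A := by
    rw [Subgroup.normalClosure, Subgroup.closure_le]
    intro x hx b
    rw [Group.mem_conjugatesOfSet_iff] at hx
    obtain ⟨y, hy, hyx⟩ := hx
    rw [Set.mem_singleton_iff] at hy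
    subst hy
    obtain ⟨g, rfl⟩ := isConj_iff.mp hyx
    have hx' : ((g * y * g⁻¹ : H) : G) ∈ C := by
      have := h.conjC (g : G) _ hc
      simpa using this
    have h1 := h.local_core hH hx' hd (g * y * g⁻¹).2 d.2
    have h2 := pCore_smul (p := p) hΩ h1 b
    have h3 : d • (g * y * g⁻¹) • b = ((g * y * g⁻¹) * d * ((g * y * g⁻¹)⁻¹ * d⁻¹ *
        (g * y * g⁻¹) * d)⁻¹ ) • b := by
      rw [← mul_smul]; congr 1; group
    have h4 : ((g * y * g⁻¹)⁻¹ * d⁻¹ * (g * y * g⁻¹) * d)⁻¹ • b = b := by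
      rw [inv_smul_eq_iff]; exact h2.symm
    rw [h3, mul_smul, h4, mul_smul]
  obtain ⟨g, hg, rfl⟩ := hA w a
  rw [hA' hg w, hdw]

/-- **(K3)** for primitive actions -/
theorem Cfg.false_of_primitive [hp : Fact p.Prime] (h : Cfg p S C D) {H : Subgroup G}
    (hH : H ≠ ⊤) {Ω : Type*} [Finite Ω] [MulAction H Ω] [MulAction.IsPreprimitive H Ω]
    (hΩ : ¬ p ∣ Nat.card Ω) {c d : H} (hc : (c : G) ∈ C) (hd : (d : G) ∈ D)
    (hcne : ∃ a : Ω, c • a ≠ a) (hne : ∃ a : Ω, d • a ≠ a) : False := by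
  refine h.false_of_local_set hH hΩ hc hd ?_ hne
  obtain ⟨b, hb⟩ := hcne
  have h1 : fixedPoints (Subgroup.normalClosure ({c} : Set H)) Ω ≠ Set.univ := by
    intro h2
    have h3 : b ∈ fixedPoints (Subgroup.normalClosure ({c} : Set H)) Ω := by
      rw [h2]; exact Set.mem_univ b
    exact hb (h3 ⟨c, Subgroup.subset_normalClosure rfl⟩)
  have h2 : MulAction.IsPretransitive (Subgroup.normalClosure ({c} : Set H)) Ω :=
    MulAction.IsQuasiPreprimitive.isPretransitive_of_normal h1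
  intro a b
  obtain ⟨g, hg⟩ := exists_smul_eq (Subgroup.normalClosure ({c} : Set H)) a b
  exact ⟨g, g.2, hg⟩

end localset

section perfect

/-- a normal `p`-subgroup centralises the perfect normal subgroups with central `O_p` -/
theorem pCore_le_centralizer_of_perfect {X : Type*} [Group X] [Finite X]
    {E : Subgroup X} (hEn : E.Normal) (hE : ⁅E, E⁆ = E)
    (hO : ∀ N : Subgroup X, N.Normal → N ≤ E → IsPGroup p N → N ≤ Subgroup.centralizer (E : Set X)) :
    Cfsg.pCore p X ≤ Subgroup.centralizer (E : Set X) := by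
  have hOp : IsPGroup p (Cfsg.pCore p X) := Lib.Cores.pCore_isPGroup p
  have hOn : (Cfsg.pCore p X).Normal := Lib.Cores.pCore_normal p
  have h1 : ⁅Cfsg.pCore p X, E⁆ ≤ Subgroup.centralizer (E : Set X) := by
    have hn : (Cfsg.pCore p X ⊓ E).Normal := inferInstance
    exact (le_inf (Subgroup.commutator_le_left _ _) (Subgroup.commutator_le_right _ _)).trans
      (hO _ hn inf_le_right (hOp.to_le inf_le_left))
  have h2 : ⁅⁅Cfsg.pCore p X, E⁆, E⁆ = ⊥ := Subgroup.commutator_eq_bot_iff_le_centralizer.mpr h1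
  have h3 : ⁅⁅E, Cfsg.pCore p X⁆, E⁆ = ⊥ := by rw [Subgroup.commutator_comm E]; exact h2
  have h4 : ⁅⁅E, E⁆, Cfsg.pCore p X⁆ = ⊥ := Subgroup.commutator_commutator_eq_bot_of_rotate h3 h2
  rw [hE] at h4
  rw [← Subgroup.commutator_eq_bot_iff_le_centralizer, Subgroup.commutator_comm]
  exact h4

/-- **(K5)**: `E ⊴ H` is perfect, its normal `p`-subgroups are central, `c, d ∈ H`, `[E, d] = E` and `c`
does not centralise `E`. -/
theorem Cfg.false_of_perfect [hp : Fact p.Prime] (h : Cfg p S C D) {H E : Subgroup G}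
    (hH : H ≠ ⊤) (hEH : E ≤ H) (hHE : H ≤ Subgroup.normalizer (E : Set G)) (hE : ⁅E, E⁆ = E)
    (hO : ∀ N : Subgroup G, N ≤ E → E ≤ Subgroup.normalizer (N : Set G) → IsPGroup p N →
      N ≤ Subgroup.centralizer (E : Set G)) {c d : G} (hc : c ∈ C) (hd : d ∈ D) (hcH : c ∈ H)
    (hdH : d ∈ H) (hdE : Subgroup.closure {x : G | ∃ e ∈ E, x = e⁻¹ * (d * e * d⁻¹)} = E)
    (hcE : c ∉ Subgroup.centralizer (E : Set G)) : False := by
  have hcore : ∀ {c' d' : G}, c' ∈ C → d' ∈ D → c' ∈ H → d' ∈ H →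
      c'⁻¹ * d'⁻¹ * c' * d' ∈ Subgroup.centralizer (E : Set G) := by
    intro c' d' hc' hd' hc'H hd'H
    have h1 := h.local_core hH hc' hd' hc'H hd'H
    have hEn : (E.subgroupOf H).Normal := (Subgroup.normal_subgroupOf_iff_le_normalizer hEH).mpr hHE
    have hmap : (E.subgroupOf H).map H.subtype = E := by
      rw [Subgroup.subgroupOf_map_subtype, inf_eq_left.mpr hEH]
    have h2 := pCore_le_centralizer_of_perfect (p := p) hEn (by
      apply Subgroup.map_injective H.subtype_injective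
      rw [Subgroup.map_commutator, hmap, hE]) (by
      intro N hN hNE hNp x hx
      rw [mem_centralizer_subgroupOf hEH]
      refine hO (N.map H.subtype) ?_ ?_ (hNp.map _) ⟨x, hx, rfl⟩
      · rw [← hmap]; exact Subgroup.map_mono hNE
      · intro e he
        rw [Subgroup.mem_normalizer_iff]
        intro y
        constructor
        · rintro ⟨n, hn, rfl⟩
          exact ⟨_, hN.conj_mem n hn ⟨e, hEH he⟩, rfl⟩
        · rintro ⟨n, hn, hny⟩
          have h3 := hN.conj_mem n hn (⟨e, hEH he⟩ : H)⁻¹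
          refine ⟨_, h3, ?_⟩
          have h4 : (n : G) = e * y * e⁻¹ := hny
          show e⁻¹ * (n : G) * (e⁻¹)⁻¹ = y
          rw [h4]; group) h1
    exact (mem_centralizer_subgroupOf hEH).mp h2
  -- conjugates
  set Z : Subgroup G := Subgroup.centralizer (E : Set G) with hZ
  have hEZ : E ≤ Subgroup.normalizer (Z : Set G) := by
    have h1 : H ≤ Subgroup.normalizer (Z : Set G) := by
      intro x hx
      rw [Subgroup.mem_normalizer_iff]
      have hxN := hHE hx
      have key : ∀ y : G, y ∈ Subgroup.normalizer (E : Set G) → ∀ z ∈ Z, y * z * y⁻¹ ∈ Z := by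
        intro y hy z hz
        rw [hZ, Subgroup.mem_centralizer_iff] at hz ⊢
        intro e he
        have h2 : y⁻¹ * e * y ∈ E := by
          have := (Subgroup.mem_normalizer_iff.mp (inv_mem hy) e).mp he
          rwa [inv_inv] at this
        have h3 := hz _ h2
        calc e * (y * z * y⁻¹) = y * ((y⁻¹ * e * y) * z) * y⁻¹ := by group
          _ = y * (z * (y⁻¹ * e * y)) * y⁻¹ := by rw [h3]
          _ = _ := by group
      intro z
      refine ⟨key x hxN z, fun hz => ?_⟩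
      have := key x⁻¹ (inv_mem hxN) _ hz
      simpa [mul_assoc] using this
    exact hEH.trans h1
  have hgen : ∀ e ∈ E, c⁻¹ * (e⁻¹ * (d * e * d⁻¹))⁻¹ * c * (e⁻¹ * (d * e * d⁻¹)) ∈ Z := by
    intro e he
    set s : G := d * e * d⁻¹ with hs
    have hsE : s ∈ E := (Subgroup.mem_normalizer_iff.mp (hHE hdH) e).mp he
    set w : G := e⁻¹ * s with hw
    have hwE : w ∈ E := mul_mem (inv_mem he) hsE
    have hd' : s⁻¹ * d * s⁻¹⁻¹ ∈ D := h.conjD s⁻¹ d hd
    have hdu : s⁻¹ * d * s⁻¹⁻¹ = d * w := by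
      rw [hw, hs]; group
    rw [hdu] at hd'
    have h1 := hcore hc hd hcH hdH
    have h2 := hcore hc hd' hcH (mul_mem hdH (hEH hwE))
    set x : G := c⁻¹ * d⁻¹ * c * d with hx
    have h4 : c⁻¹ * (d * w)⁻¹ * c * (d * w) = (c⁻¹ * w⁻¹ * c * w) * x := by
      have h5 : w * x = x * w := Subgroup.mem_centralizer_iff.mp h1 w hwE
      calc c⁻¹ * (d * w)⁻¹ * c * (d * w) = (c⁻¹ * w⁻¹ * c) * (x * w) := by rw [hx]; group
        _ = (c⁻¹ * w⁻¹ * c) * (w * x) := by rw [h5]
        _ = _ := by group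
    rw [h4] at h2
    have := mul_mem h2 (inv_mem h1)
    rwa [mul_assoc, mul_inv_cancel, mul_one] at this
  -- `c` commutes with `E` modulo `Z`
  have hcN : c ∈ Subgroup.normalizer (E : Set G) := hHE hcH
  have hall : ∀ w ∈ E, c⁻¹ * w⁻¹ * c * w ∈ Z := by
    have hcl : ∀ w ∈ Subgroup.closure {x : G | ∃ e ∈ E, x = e⁻¹ * (d * e * d⁻¹)},
        w ∈ E ∧ c⁻¹ * w⁻¹ * c * w ∈ Z := by
      intro w hw
      induction hw using Subgroup.closure_induction with
      | mem x hx =>
        obtain ⟨e, he, rfl⟩ := hx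
        exact ⟨mul_mem (inv_mem he) ((Subgroup.mem_normalizer_iff.mp (hHE hdH) e).mp he), hgen e he⟩
      | one => exact ⟨one_mem _, by simp⟩
      | mul x y _ _ hx hy =>
        refine ⟨mul_mem hx.1 hy.1, ?_⟩
        have e1 : c⁻¹ * (x * y)⁻¹ * c * (x * y) =
            (c⁻¹ * y⁻¹ * c * y) * (y⁻¹ * (c⁻¹ * x⁻¹ * c * x) * y) := by group
        rw [e1]
        refine mul_mem hy.2 ?_
        have := (Subgroup.mem_normalizer_iff.mp (hEZ (inv_mem hy.1)) _).mp hx.2
        rwa [inv_inv] at this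
      | inv x _ hx =>
        refine ⟨inv_mem hx.1, ?_⟩
        have e1 : c⁻¹ * x⁻¹⁻¹ * c * x⁻¹ = x * (c⁻¹ * x⁻¹ * c * x)⁻¹ * x⁻¹ := by group
        rw [e1]
        exact (Subgroup.mem_normalizer_iff.mp (hEZ hx.1) _).mp (inv_mem hx.2)
    intro w hw
    rw [← hdE] at hw
    exact (hcl w hw).2
  -- three subgroups
  apply hcE
  have h1 : ⁅Subgroup.zpowers c, E⁆ ≤ Z := by
    rw [Subgroup.commutator_comm, Subgroup.commutator_le]
    intro w hw z hz
    -- induction on the powers of `c`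
    let B : Subgroup G :=
      { carrier := {z | z ∈ Subgroup.normalizer (E : Set G) ∧ ∀ w ∈ E, w * z * w⁻¹ * z⁻¹ ∈ Z}
        one_mem' := ⟨one_mem _, fun w _ => by simp⟩
        mul_mem' := by
          rintro a b ⟨ha, ha'⟩ ⟨hb, hb'⟩
          refine ⟨mul_mem ha hb, fun w hw => ?_⟩
          have e1 : w * (a * b) * w⁻¹ * (a * b)⁻¹ =
              (w * a * w⁻¹ * a⁻¹) * (a * (w * b * w⁻¹ * b⁻¹) * a⁻¹) := by group
          rw [e1]
          refine mul_mem (ha' w hw) ?_
          have key : ∀ z ∈ Z, a * z * a⁻¹ ∈ Z := by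
            intro z hz
            rw [hZ, Subgroup.mem_centralizer_iff] at hz ⊢
            intro e he
            have h2 : a⁻¹ * e * a ∈ E := by
              have := (Subgroup.mem_normalizer_iff.mp (inv_mem ha) e).mp he
              rwa [inv_inv] at this
            have h3 := hz _ h2
            calc e * (a * z * a⁻¹) = a * ((a⁻¹ * e * a) * z) * a⁻¹ := by group
              _ = a * (z * (a⁻¹ * e * a)) * a⁻¹ := by rw [h3]
              _ = _ := by group
          exact key _ (hb' w hw)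
        inv_mem' := by
          rintro a ⟨ha, ha'⟩
          refine ⟨inv_mem ha, fun w hw => ?_⟩
          have h2 : a * w * a⁻¹ ∈ E := (Subgroup.mem_normalizer_iff.mp ha w).mp hw
          have h3 := ha' w hw
          have e1 : w * a⁻¹ * w⁻¹ * a⁻¹⁻¹ = a⁻¹ * (w * a * w⁻¹ * a⁻¹)⁻¹ * a *
              1 := by
            group
          rw [e1, mul_one]
          have key : ∀ z ∈ Z, a⁻¹ * z * a ∈ Z := by
            intro z hz
            rw [hZ, Subgroup.mem_centralizer_iff] at hz ⊢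
            intro e he
            have h2 : a * e * a⁻¹ ∈ E := (Subgroup.mem_normalizer_iff.mp ha e).mp he
            have h3 := hz _ h2
            calc e * (a⁻¹ * z * a) = a⁻¹ * ((a * e * a⁻¹) * z) * a := by group
              _ = a⁻¹ * (z * (a * e * a⁻¹)) * a := by rw [h3]
              _ = _ := by group
          exact key _ (inv_mem h3) }
    have hcB : c ∈ B := by
      refine ⟨hcN, fun w hw => ?_⟩
      have h2 := hall _ (inv_mem hw)
      -- c⁻¹ w c w⁻¹ ∈ Z
      rw [inv_inv] at h2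
      have h3 : w * c * w⁻¹ * c⁻¹ = c * (c⁻¹ * w * c * w⁻¹) * c⁻¹ := by group
      rw [h3, hZ, Subgroup.mem_centralizer_iff]
      intro e he
      have h4 : c⁻¹ * e * c ∈ E := by
        have := (Subgroup.mem_normalizer_iff.mp (inv_mem hcN) e).mp he
        rwa [inv_inv] at this
      have h5 := Subgroup.mem_centralizer_iff.mp h2 _ h4
      calc e * (c * (c⁻¹ * w * c * w⁻¹) * c⁻¹) = c * ((c⁻¹ * e * c) * (c⁻¹ * w * c * w⁻¹)) * c⁻¹ := by
            group
        _ = c * ((c⁻¹ * w * c * w⁻¹) * (c⁻¹ * e * c)) * c⁻¹ := by rw [h5]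
        _ = _ := by group
    have hzB : z ∈ B := (Subgroup.zpowers_le.mpr hcB) hz
    rw [commutatorElement_def]
    exact hzB.2 w hw
  have h2 : ⁅⁅Subgroup.zpowers c, E⁆, E⁆ = ⊥ := Subgroup.commutator_eq_bot_iff_le_centralizer.mpr h1
  have h3 : ⁅⁅E, Subgroup.zpowers c⁆, E⁆ = ⊥ := by rw [Subgroup.commutator_comm E]; exact h2
  have h4 : ⁅⁅E, E⁆, Subgroup.zpowers c⁆ = ⊥ := Subgroup.commutator_commutator_eq_bot_of_rotate h3 h2
  rw [hE, Subgroup.commutator_comm, Subgroup.commutator_eq_bot_iff_le_centralizer] at h4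
  exact h4 (Subgroup.mem_zpowers c)

end perfect

end Cfsg.Agent.H533.Wf
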