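import Cfsg.Agent.H533.Wf.Coprime
import Cfsg.Agent.H533.Wf.Kills2
import Cfsg.Agent.H533.T5.Red

/-!
# S3826: the reduction, part A (exponents, `O_{p'}(G) = 1`, minimal normal subgroups)
-/

set_option autoImplicit false
set_option linter.unusedSectionVars false

namespace Cfsg.Agent.H533.Wf

universe u

open Subgroup Cfsg Cfsg.Agent.H533.T5

open scoped commutatorElement Pointwise

/-- A group with `O_p = 1` in which the theorem is to be shown; it holds for smaller groups. -/
structure Mn (p : ℕ) {G : Type u} [Group G] (C D : Set G) : Prop extends Hyp p C D where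
  core : Cfsg.pCore p G = ⊥
  ih : ∀ (X : Type u) [Group X] [Finite X], Nat.card X < Nat.card G → Thm p X

/-- The subgroup generated by the commutators. -/
def comms {G : Type u} [Group G] (C D : Set G) : Subgroup G :=
  Subgroup.closure {x | ∃ c ∈ C, ∃ d ∈ D, x = c⁻¹ * d⁻¹ * c * d}

/-- `C` and `D` commute. -/
def Com {G : Type u} [Group G] (C D : Set G) : Prop :=
  ∀ c ∈ C, ∀ d ∈ D, c⁻¹ * d⁻¹ * c * d = 1

section gen

variable {p : ℕ} {G : Type u} [Group G] {C D : Set G}

theorem Mn.symm (h : Mn p C D) : Mn p D C where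
  toHyp := h.toHyp.symm
  core := h.core
  ih := h.ih

theorem Com.symm (h : Com C D) : Com D C := by
  intro d hd c hc
  have h1 := h c hc d hd
  have h2 : d⁻¹ * c⁻¹ * d * c = (c⁻¹ * d⁻¹ * c * d)⁻¹ := by group
  rw [h2, h1, inv_one]

theorem Com.commute (h : Com C D) {c d : G} (hc : c ∈ C) (hd : d ∈ D) : Commute c d := by
  have h1 := h c hc d hd
  show c * d = d * c
  have h3 : c * d = d * c * (c⁻¹ * d⁻¹ * c * d) := by group
  rw [h3, h1, mul_one]

theorem comms_normal (h : Hyp p C D) : (comms C D).Normal := by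
  constructor
  intro x hx g
  induction hx using Subgroup.closure_induction with
  | mem x hx =>
    obtain ⟨c, hc, d, hd, rfl⟩ := hx
    refine Subgroup.subset_closure ⟨_, h.conjC g c hc, _, h.conjD g d hd, ?_⟩
    group
  | one => simp
  | mul x y _ _ hx hy =>
    have : g * (x * y) * g⁻¹ = (g * x * g⁻¹) * (g * y * g⁻¹) := by group
    rw [this]; exact mul_mem hx hy
  | inv x _ hx =>
    have : g * x⁻¹ * g⁻¹ = (g * x * g⁻¹)⁻¹ := by group
    rw [this]; exact inv_mem hx

theorem mem_comms {c d : G} (hc : c ∈ C) (hd : d ∈ D) : c⁻¹ * d⁻¹ * c * d ∈ comms C D :=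
  Subgroup.subset_closure ⟨c, hc, d, hd, rfl⟩

theorem Com.of_comms (h : comms C D = ⊥) : Com C D := by
  intro c hc d hd
  have := mem_comms hc hd
  rwa [h, Subgroup.mem_bot] at this

theorem comms_eq_bot (h : Com C D) : comms C D = ⊥ := by
  rw [comms, Subgroup.closure_eq_bot_iff]
  rintro x ⟨c, hc, d, hd, rfl⟩
  exact h c hc d hd

end gen

section fin

variable {p : ℕ} [hp : Fact p.Prime] {G : Type u} [Group G] [Finite G] {C D : Set G}

theorem card_quotient_lt {N : Subgroup G} [N.Normal] (hN : N ≠ ⊥) : Nat.card (G ⧸ N) < Nat.card G := by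
  have h1 := Subgroup.card_eq_card_quotient_mul_card_subgroup N
  have h2 : 1 < Nat.card N := by
    by_contra h
    apply hN
    rw [← Subgroup.card_eq_one]
    have : 0 < Nat.card N := Nat.card_pos
    omega
  have h3 : 0 < Nat.card (G ⧸ N) := Nat.card_pos
  rw [h1]
  nlinarith

/-- Modulo a nontrivial normal subgroup. -/
theorem Mn.quot (h : Mn p C D) {N : Subgroup G} [N.Normal] (hN : N ≠ ⊥) :
    ∀ x ∈ comms C D, (QuotientGroup.mk' N x) ∈ Cfsg.pCore p (G ⧸ N) := by
  intro x hx
  induction hx using Subgroup.closure_induction with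
  | mem x hx =>
    obtain ⟨c, hc, d, hd, rfl⟩ := hx
    have h1 := h.ih (G ⧸ N) (card_quotient_lt hN) _ _
      (h.toHyp.map (QuotientGroup.mk' N) (QuotientGroup.mk'_surjective N)) _ ⟨c, hc, rfl⟩ _ ⟨d, hd, rfl⟩
    simpa using h1
  | one => rw [map_one]; exact one_mem _
  | mul x y _ _ hx hy => rw [map_mul]; exact mul_mem hx hy
  | inv x _ hx => rw [map_inv]; exact inv_mem hx

/-- the commutators are `p`-elements -/
theorem Hyp.isPGroup_zpowers (h : Hyp p C D) {c d : G} (hc : c ∈ C) (hd : d ∈ D) :
    IsPGroup p (Subgroup.zpowers (c⁻¹ * d⁻¹ * c * d)) := by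
  refine (h.pair c hc d hd).to_le ?_
  rw [Subgroup.zpowers_le]
  have h1 : c ∈ Subgroup.closure ({c, d} : Set G) := Subgroup.subset_closure (by simp)
  have h2 : d ∈ Subgroup.closure ({c, d} : Set G) := Subgroup.subset_closure (by simp)
  exact mul_mem (mul_mem (mul_mem (inv_mem h1) (inv_mem h2)) h1) h2

/-- `p`-elements of a nilpotent normal subgroup -/
theorem mem_pCore_of_nilpotent {N : Subgroup G} [N.Normal] (hN : Group.IsNilpotent N) {x : G}
    (hx : x ∈ N) (hxp : IsPGroup p (Subgroup.zpowers x)) : x ∈ Cfsg.pCore p G := by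
  have P : Sylow p N := default
  have hPn : (P : Subgroup N).Normal := by
    have h1 := (Group.isNilpotent_of_finite_tfae (G := N)).out 0 3
    exact (h1.mp hN) p hp P
  have hchar : (P : Subgroup N).Characteristic := Sylow.characteristic_of_normal P hPn
  have hn : ((P : Subgroup N).map N.subtype).Normal := ConjAct.normal_of_characteristic_of_normal
  have h2 : (P : Subgroup N).map N.subtype ≤ Cfsg.pCore p G :=
    Lib.Cores.le_pCore hn (P.isPGroup'.map _)
  apply h2
  have h3 : IsPGroup p (Subgroup.zpowers (⟨x, hx⟩ : N)) := by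
    refine hxp.of_injective (N.subtype.subgroupMap _ |>.comp (MonoidHom.id _) |> fun f =>
      (Subgroup.inclusion (by
        rintro _ ⟨y, hy, rfl⟩
        obtain ⟨k, rfl⟩ := Subgroup.mem_zpowers_iff.mp hy
        exact ⟨k, by simp⟩ : (Subgroup.zpowers (⟨x, hx⟩ : N)).map N.subtype ≤ Subgroup.zpowers x)).comp f) ?_
    intro a b hab
    apply Subtype.ext; apply Subtype.ext
    exact congrArg (fun z => (z.1 : G)) hab
  obtain ⟨Q, hQ⟩ := h3.exists_le_sylow
  have hQP : Q = P := by
    have : Subsingleton (Sylow p N) := by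
      have := Sylow.unique_of_normal P hPn
      infer_instance
    exact Subsingleton.elim _ _
  refine ⟨⟨x, hx⟩, ?_, rfl⟩
  have := hQ (Subgroup.mem_zpowers _)
  rw [hQP] at this
  exact this

theorem Mn.com_of_nilpotent (h : Mn p C D) (hn : Group.IsNilpotent (comms C D)) : Com C D := by
  have := comms_normal h.toHyp
  intro c hc d hd
  have h1 := mem_pCore_of_nilpotent (p := p) hn (mem_comms hc hd) (h.toHyp.isPGroup_zpowers hc hd)
  rwa [h.core, Subgroup.mem_bot] at h1

/-- If the commutators centralise a nontrivial normal subgroup they are trivial. -/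
theorem Mn.com_of_centralizes (h : Mn p C D) {A : Subgroup G} [A.Normal] (hA : A ≠ ⊥)
    (hM : comms C D ≤ Subgroup.centralizer (A : Set G)) : Com C D := by
  apply h.com_of_nilpotent
  let f : comms C D →* G ⧸ A := (QuotientGroup.mk' A).comp (comms C D).subtype
  have hr : IsPGroup p f.range := by
    refine (Lib.Cores.pCore_isPGroup (G := G ⧸ A) p).to_le ?_
    rintro _ ⟨x, rfl⟩
    exact h.quot hA x x.2
  have hn : Group.IsNilpotent f.range := hr.isNilpotent
  refine Subgroup.isNilpotent_of_ker_le_center f.rangeRestrict ?_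
  intro x hx
  rw [MonoidHom.ker_rangeRestrict] at hx
  have h1 : (x : G) ∈ A := (QuotientGroup.eq_one_iff _).mp hx
  rw [Subgroup.mem_center_iff]
  intro y
  exact Subtype.ext (Subgroup.mem_centralizer_iff.mp (hM y.2) x h1).symm

/-- Reduction of the exponents. -/
theorem Mn.exponents (hbase : ∀ C D : Set G, Mn p C D → (∀ c ∈ C, c ^ p = 1) → (∀ d ∈ D, d ^ p = 1) →
    Com C D) : ∀ (n k l : ℕ), k + l = n → ∀ C D : Set G, Mn p C D → (∀ c ∈ C, c ^ p ^ k = 1) →
      (∀ d ∈ D, d ^ p ^ l = 1) → Com C D := by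
  intro n
  induction n with
  | zero =>
    intro k l hkl C D h hC hD
    have hk : k = 0 := by omega
    have hl : l = 0 := by omega
    subst hk hl
    intro c hc d hd
    have h1 := hC c hc
    have h2 := hD d hd
    rw [pow_zero, pow_one] at h1 h2
    rw [h1, h2]; simp
  | succ n ih =>
    -- the step for `C`
    have step : ∀ (k l : ℕ), 2 ≤ k → k + l = n + 1 → ∀ C D : Set G, Mn p C D →
        (∀ c ∈ C, c ^ p ^ k = 1) → (∀ d ∈ D, d ^ p ^ l = 1) → Com C D := by
      intro k l hk hkl C D h hC hD
      let C' : Set G := {x | ∃ c ∈ C, x = c ^ p}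
      have hC'n : ∀ g : G, ∀ c ∈ C', g * c * g⁻¹ ∈ C' := by
        rintro g _ ⟨c, hc, rfl⟩
        exact ⟨_, h.conjC g c hc, by rw [conj_pow]⟩
      have h' : Mn p C' D :=
        { toHyp := h.toHyp.mono hC'n h.conjD
            (by rintro _ ⟨c, hc, rfl⟩; exact ⟨c, hc, Subgroup.npow_mem_zpowers c p⟩)
            (fun d hd => ⟨d, hd, Subgroup.mem_zpowers d⟩)
          core := h.core
          ih := h.ih }
      have hcom := ih (k - 1) l (by omega) C' D h' (by
        rintro _ ⟨c, hc, rfl⟩
        rw [← pow_mul, ← pow_succ', Nat.sub_add_cancel (by omega)]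
        exact hC c hc) hD
      by_cases hA : Subgroup.closure C' = ⊥
      · -- exponent `p`
        rw [Subgroup.closure_eq_bot_iff] at hA
        refine ih (k - 1) l (by omega) C D h (fun c hc => ?_) hD
        have h1 : c ^ p = 1 := hA ⟨c, hc, rfl⟩
        have h2 : p ^ (k - 1) = p * p ^ (k - 2) := by
          rw [← pow_succ']; congr 1; omega
        rw [h2, pow_mul, h1, one_pow]
      · have hAn : (Subgroup.closure C').Normal := by
          constructor
          intro x hx g
          induction hx using Subgroup.closure_induction with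
          | mem x hx => exact Subgroup.subset_closure (hC'n g x hx)
          | one => simp
          | mul x y _ _ hx hy =>
            have : g * (x * y) * g⁻¹ = (g * x * g⁻¹) * (g * y * g⁻¹) := by group
            rw [this]; exact mul_mem hx hy
          | inv x _ hx =>
            have : g * x⁻¹ * g⁻¹ = (g * x * g⁻¹)⁻¹ := by group
            rw [this]; exact inv_mem hx
        refine h.com_of_centralizes hA ?_
        have hDc : ∀ d ∈ D, d ∈ Subgroup.centralizer ((Subgroup.closure C' : Subgroup G) : Set G) := by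
          intro d hd
          rw [Subgroup.centralizer_closure, Subgroup.mem_centralizer_iff]
          intro x hx
          exact (hcom.commute hx hd).eq
        rw [comms, Subgroup.closure_le]
        rintro _ ⟨c, hc, d, hd, rfl⟩
        have h1 : c⁻¹ * d⁻¹ * c * d = (c⁻¹ * d * c)⁻¹ * d := by group
        rw [h1]
        exact mul_mem (inv_mem (hDc _ (h.toHyp.conjD' c hd))) (hDc d hd)
    intro k l hkl C D h hC hD
    by_cases hk : 2 ≤ k
    · exact step k l hk hkl C D h hC hD
    by_cases hl : 2 ≤ l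
    · exact (step l k hl (by omega) D C h.symm hD hC).symm
    refine hbase C D h (fun c hc => ?_) (fun d hd => ?_)
    · have h1 := hC c hc
      have hk' : k = 0 ∨ k = 1 := by omega
      rcases hk' with rfl | rfl
      · rw [pow_zero, pow_one] at h1; rw [h1, one_pow]
      · rwa [pow_one] at h1
    · have h1 := hD d hd
      have hl' : l = 0 ∨ l = 1 := by omega
      rcases hl' with rfl | rfl
      · rw [pow_zero, pow_one] at h1; rw [h1, one_pow]
      · rwa [pow_one] at h1

/-- The base configuration. -/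
structure Bs (p : ℕ) {G : Type u} [Group G] (C D : Set G) : Prop extends Mn p C D where
  ordC : ∀ c ∈ C, orderOf c = p
  ordD : ∀ d ∈ D, orderOf d = p
  ne : ∃ c ∈ C, ∃ d ∈ D, ¬ Commute c d
  clC : ∀ c ∈ C, ∀ c' ∈ C, IsConj c c'
  clD : ∀ d ∈ D, ∀ d' ∈ D, IsConj d d'

theorem Bs.symm (h : Bs p C D) : Bs p D C where
  toMn := h.toMn.symm
  ordC := h.ordD
  ordD := h.ordC
  ne := by
    obtain ⟨c, hc, d, hd, hn⟩ := h.ne
    exact ⟨d, hd, c, hc, fun h' => hn h'.symm⟩
  clC := h.clD
  clD := h.clC

theorem Mn.com_of (hbs : ∀ C D : Set G, Bs p C D → False) {C D : Set G} (h : Mn p C D)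
    (hC : ∀ c ∈ C, c ^ p = 1) (hD : ∀ d ∈ D, d ^ p = 1) : Com C D := by
  intro c hc d hd
  by_contra hne
  have hnc : ¬ Commute c d := by
    intro hcd
    apply hne
    have h1 := hcd.eq
    calc c⁻¹ * d⁻¹ * c * d = c⁻¹ * d⁻¹ * (c * d) := by group
      _ = 1 := by rw [h1]; group
  refine hbs {x | IsConj c x} {x | IsConj d x} ?_
  have hcc : ∀ x, IsConj c x → x ∈ C := by
    intro x hx
    obtain ⟨g, rfl⟩ := isConj_iff.mp hx
    exact h.conjC g c hc
  have hdd : ∀ x, IsConj d x → x ∈ D := by
    intro x hx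
    obtain ⟨g, rfl⟩ := isConj_iff.mp hx
    exact h.conjD g d hd
  have hc1 : c ≠ 1 := by rintro rfl; exact hnc (Commute.one_left d)
  have hd1 : d ≠ 1 := by rintro rfl; exact hnc (Commute.one_right c)
  exact
    { toHyp := h.toHyp.mono
        (fun g x hx => hx.trans (isConj_iff.mpr ⟨g, rfl⟩))
        (fun g x hx => hx.trans (isConj_iff.mpr ⟨g, rfl⟩))
        (fun x hx => ⟨x, hcc x hx, Subgroup.mem_zpowers x⟩)
        (fun x hx => ⟨x, hdd x hx, Subgroup.mem_zpowers x⟩)
      core := h.core
      ih := h.ih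
      ordC := fun x hx => by
        refine orderOf_eq_prime (hC x (hcc x hx)) ?_
        rintro rfl
        exact hc1 (isConj_one_left.mp hx)
      ordD := fun x hx => by
        refine orderOf_eq_prime (hD x (hdd x hx)) ?_
        rintro rfl
        exact hd1 (isConj_one_left.mp hx)
      ne := ⟨c, IsConj.refl c, d, IsConj.refl d, hnc⟩
      clC := fun x hx y hy => hx.symm.trans hy
      clD := fun x hx y hy => hx.symm.trans hy }

/-- It is sufficient to exclude the base configurations. -/
theorem thm_of_bs (hbs : ∀ (G : Type u) [Group G] [Finite G] (C D : Set G), Bs p C D → False) :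
    ∀ (n : ℕ) (G : Type u) [Group G] [Finite G], Nat.card G ≤ n → Thm p G := by
  intro n
  induction n with
  | zero =>
    intro G _ _ hn
    have : 0 < Nat.card G := Nat.card_pos
    omega
  | succ n ih =>
    intro G _ _ hn C D h c hc d hd
    by_cases hcore : Cfsg.pCore p G = ⊥
    · have hMn : Mn p C D :=
        { toHyp := h
          core := hcore
          ih := fun X _ _ hX => ih X (by omega) }
      have hexp : ∀ {c d : G}, IsPGroup p ↥(Subgroup.closure ({c, d} : Set G)) →
          c ^ p ^ (Nat.card G) = 1 := by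
        intro c d hP
        have hc : c ∈ Subgroup.closure ({c, d} : Set G) := Subgroup.subset_closure (by simp)
        obtain ⟨k, hk⟩ := (IsPGroup.iff_orderOf.mp hP) ⟨c, hc⟩
        rw [Subgroup.orderOf_mk] at hk
        have hk1 : k ≤ Nat.card G := by
          have h1 : p ^ k ∣ Nat.card G := hk ▸ orderOf_dvd_natCard c
          have h2 := Nat.le_of_dvd Nat.card_pos h1
          exact (Nat.lt_pow_self hp.out.one_lt).le.trans h2
        rw [← orderOf_dvd_iff_pow_eq_one, hk]
        exact pow_dvd_pow p hk1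
      have h1 := Mn.exponents (p := p) (G := G)
        (fun C D h hC hD => h.com_of (fun C D => hbs G C D) hC hD) _ (Nat.card G) (Nat.card G) rfl
        C D hMn (fun c hc => hexp (h.pair c hc d hd))
        (fun d hd => hexp (h.symm.pair d hd c hc))
      rw [h1 c hc d hd]
      exact one_mem _
    · have hn' : (Cfsg.pCore p G).Normal := Lib.Cores.pCore_normal p
      have h1 := ih (G ⧸ Cfsg.pCore p G) (by have := card_quotient_lt hcore; omega) _ _
        (h.map (QuotientGroup.mk' _) (QuotientGroup.mk'_surjective _)) _ ⟨c, hc, rfl⟩ _ ⟨d, hd, rfl⟩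
      rw [Lib.Cores.pCore_quotient_pCore, Subgroup.mem_bot] at h1
      have h2 : QuotientGroup.mk' (Cfsg.pCore p G) (c⁻¹ * d⁻¹ * c * d) = 1 := by
        simpa using h1
      exact (QuotientGroup.eq_one_iff _).mp h2

/-! ### `O_{p'}(G) = 1` -/

theorem Bs.pPrimeCore_eq (hp3 : 3 ≤ p) (h : Bs p C D) : Cfsg.pPrimeCore p G = ⊥ := by
  by_contra hR
  have hRn : (Cfsg.pPrimeCore p G).Normal := Lib.Cores.pPrimeCore_normal p
  have hcop : (Nat.card (Cfsg.pPrimeCore p G)).Coprime p := Lib.Cores.pPrimeCore_coprime p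
  obtain ⟨c0, hc0, d0, hd0, hn⟩ := h.ne
  apply hn
  refine (h.toMn.com_of_centralizes hR ?_).commute hc0 hd0
  rw [comms, Subgroup.closure_le]
  rintro _ ⟨c, hc, d, hd, rfl⟩
  set P := Subgroup.closure ({c, d} : Set G) with hP
  have hpair : PairOn p P (Cfsg.pPrimeCore p G) c d :=
    { clo := rfl
      isP := h.pair c hc d hd
      free := h.free c hc d hd
      cp := by rw [← h.ordC c hc, pow_orderOf_eq_one]
      dp := by rw [← h.ordD d hd, pow_orderOf_eq_one]
      norm := by rw [Subgroup.normalizer_eq_top_iff.mpr hRn]; exact le_top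
      cop := hcop
      pair := fun x _ a _ b _ => h.pair _ (h.conjC x _ (h.conjC a c hc)) _ (h.conjD b d hd) }
  have h1 := coprime_pair hp3 hpair
  apply h1
  have h2 : c ∈ P := hpair.mem_left
  have h3 : d ∈ P := hpair.mem_right
  have h4 : c⁻¹ * d⁻¹ * c * d = ⁅c⁻¹, d⁻¹⁆ := by rw [commutatorElement_def, inv_inv, inv_inv]
  rw [h4]
  exact Subgroup.commutator_mem_commutator (inv_mem h2) (inv_mem h3)

end fin

end Cfsg.Agent.H533.Wf
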