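import Cfsg.Agent.H533.Wf.RedA

/-!
# S3826: the reduction, part B (minimal normal subgroups, the blocks, the almost simple case)
-/

set_option autoImplicit false
set_option linter.unusedSectionVars false

namespace Cfsg.Agent.H533.Wf

universe u

open Subgroup Cfsg Cfsg.Agent.H533.T5

open scoped commutatorElement Pointwise

section cores

variable {p : ℕ} [hp : Fact p.Prime] {G : Type u} [Group G] [Finite G]

/-- Normal nilpotent subgroups of groups with trivial cores. -/
theorem eq_bot_of_nilpotent (h1 : pCore p G = ⊥) (h2 : pPrimeCore p G = ⊥) {N : Subgroup G}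
    (hN : N.Normal) (h : Group.IsNilpotent N) : N = ⊥ := by
  rw [eq_bot_iff]
  refine (Lib.Cores.le_iSup_pCore_of_isNilpotent hN h).trans (iSup_le fun q => ?_)
  by_cases hq : (q : ℕ) = p
  · rw [hq, h1]
  · rw [← h2]
    refine Lib.Cores.le_pPrimeCore (Lib.Cores.pCore_normal _) ?_
    have : Fact (Nat.Prime (q : ℕ)) := ⟨q.2⟩
    obtain ⟨n, hn⟩ := IsPGroup.iff_card.mp (Lib.Cores.pCore_isPGroup (G := G) (q : ℕ))
    rw [hn]
    exact Nat.Coprime.pow_left _ ((Nat.coprime_primes q.2 hp.out).mpr hq)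

/-- The cores of `B ⊴ M ⊴ G`. -/
theorem cores_sub (h1 : pCore p G = ⊥) (h2 : pPrimeCore p G = ⊥)
    {M B : Subgroup G} [hM : M.Normal] (hBM : B ≤ M) (hMB : M ≤ Subgroup.normalizer (B : Set G)) :
    pCore p B = ⊥ ∧ pPrimeCore p B = ⊥ := by
  have hBn : (B.subgroupOf M).Normal := by
    constructor
    rintro ⟨x, hx⟩ hxB ⟨m, hm⟩
    exact ((Subgroup.mem_normalizer_iff.mp (hMB hm)) x).mp hxB
  have hcM : pCore p M = ⊥ := by
    have h := Lib.Cores.map_subtype_pCore p hM
    rw [h1, inf_bot_eq, Subgroup.map_eq_bot_iff_of_injective _ M.subtype_injective] at h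
    exact h
  have hcM' : pPrimeCore p M = ⊥ := by
    have h := Lib.Cores.map_subtype_pPrimeCore p hM
    rw [h2, inf_bot_eq, Subgroup.map_eq_bot_iff_of_injective _ M.subtype_injective] at h
    exact h
  have hcB : pCore p (B.subgroupOf M) = ⊥ := by
    have h := Lib.Cores.map_subtype_pCore p hBn
    rw [hcM, inf_bot_eq, Subgroup.map_eq_bot_iff_of_injective _ (Subgroup.subtype_injective _)] at h
    exact h
  have hcB' : pPrimeCore p (B.subgroupOf M) = ⊥ := by
    have h := Lib.Cores.map_subtype_pPrimeCore p hBn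
    rw [hcM', inf_bot_eq, Subgroup.map_eq_bot_iff_of_injective _ (Subgroup.subtype_injective _)] at h
    exact h
  have e : B.subgroupOf M ≃* B := Subgroup.subgroupOfEquivOfLe hBM
  refine ⟨?_, ?_⟩
  · rw [← Lib.Cores.map_equiv_pCore e p, hcB, Subgroup.map_bot]
  · rw [← Lib.Cores.map_equiv_pPrimeCore e p, hcB', Subgroup.map_bot]

end cores

section mn

variable {p : ℕ} [hp : Fact p.Prime] {G : Type u} [Group G] [Finite G] {C D : Set G}

theorem Bs.not_com (h : Bs p C D) : ¬ Com C D := by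
  intro hcom
  obtain ⟨c, hc, d, hd, hn⟩ := h.ne
  exact hn (hcom.commute hc hd)

/-- The centraliser of a minimal normal subgroup. -/
theorem Bs.centralizer_eq (hp3 : 3 ≤ p) (h : Bs p C D) {N : Subgroup G} [hNn : N.Normal]
    (hN : N ≠ ⊥) : Subgroup.centralizer (N : Set G) = ⊥ := by
  by_contra hZ
  set Z : Subgroup G := Subgroup.centralizer (N : Set G) with hZd
  have hZn : Z.Normal := by rw [hZd]; infer_instance
  apply h.not_com
  apply Com.of_comms
  -- `Z ⊓ N = ⊥`
  have hI : Z ⊓ N = ⊥ := by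
    refine eq_bot_of_nilpotent (p := p) h.core (h.pPrimeCore_eq hp3) inferInstance ?_
    have hcomm : IsMulCommutative ↥(Z ⊓ N) := by
      refine ⟨⟨fun a b => Subtype.ext ?_⟩⟩
      exact (Subgroup.mem_centralizer_iff.mp a.2.1 (b : G) b.2.2).symm
    let _ : CommGroup ↥(Z ⊓ N) := { (inferInstance : Group ↥(Z ⊓ N)) with
      mul_comm := hcomm.is_comm.comm }
    exact CommGroup.isNilpotent
  have hMp : IsPGroup p (comms C D) := by
    rintro ⟨x, hx⟩
    have h1 := h.quot hN x hx
    have h2 := h.quot hZ x hx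
    obtain ⟨k1, hk1⟩ := (Lib.Cores.pCore_isPGroup (G := G ⧸ N) p) ⟨_, h1⟩
    obtain ⟨k2, hk2⟩ := (Lib.Cores.pCore_isPGroup (G := G ⧸ Z) p) ⟨_, h2⟩
    have h3 : x ^ p ^ k1 ∈ N := by
      have := congrArg Subtype.val hk1
      simp only [Subgroup.coe_pow, Subgroup.coe_one] at this
      rw [← map_pow] at this
      exact (QuotientGroup.eq_one_iff _).mp this
    have h4 : x ^ p ^ k2 ∈ Z := by
      have := congrArg Subtype.val hk2
      simp only [Subgroup.coe_pow, Subgroup.coe_one] at this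
      rw [← map_pow] at this
      exact (QuotientGroup.eq_one_iff _).mp this
    refine ⟨k1 + k2, Subtype.ext ?_⟩
    have h5 : x ^ p ^ (k1 + k2) ∈ Z ⊓ N := by
      refine ⟨?_, ?_⟩
      · rw [pow_add, mul_comm, pow_mul]; exact pow_mem h4 _
      · rw [pow_add, pow_mul]; exact pow_mem h3 _
    rw [hI, Subgroup.mem_bot] at h5
    exact h5
  have h6 := Lib.Cores.le_pCore (comms_normal h.toHyp) hMp
  rw [h.core] at h6
  exact le_bot_iff.mp h6

/-- Non-commuting pairs generate `G` modulo `N`. -/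
theorem Bs.sup_eq_top (hp3 : 3 ≤ p) (h : Bs p C D) {N : Subgroup G} [hNn : N.Normal]
    (hN : N ≠ ⊥) {c d : G} (hc : c ∈ C) (hd : d ∈ D) (hn : ¬ Commute c d) :
    N ⊔ Subgroup.closure ({c, d} : Set G) = ⊤ := by
  by_contra hH
  set H : Subgroup G := N ⊔ Subgroup.closure ({c, d} : Set G) with hHd
  have hcH : c ∈ H := (le_sup_right : _ ≤ H) (Subgroup.subset_closure (by simp))
  have hdH : d ∈ H := (le_sup_right : _ ≤ H) (Subgroup.subset_closure (by simp))
  have hNH : N ≤ H := le_sup_left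
  have h1 := (h.ih H (card_lt_of_ne_top hH)).subgroup h.toHyp hc hd hcH hdH
  set x : H := (⟨c, hcH⟩⁻¹ * ⟨d, hdH⟩⁻¹ * ⟨c, hcH⟩ * ⟨d, hdH⟩ : H) with hx
  have hN' : (N.subgroupOf H).Normal := inferInstance
  have hcN : pCore p N = ⊥ :=
    (cores_sub (p := p) h.core (h.pPrimeCore_eq hp3) le_rfl Subgroup.le_normalizer).1
  have hcN' : pCore p (N.subgroupOf H) = ⊥ := by
    rw [← Lib.Cores.map_equiv_pCore (Subgroup.subgroupOfEquivOfLe hNH).symm p, hcN,
      Subgroup.map_bot]
  have hI : Disjoint (pCore p H) (N.subgroupOf H) := by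
    rw [disjoint_iff]
    have h2 := Lib.Cores.map_subtype_pCore p hN'
    rw [hcN', Subgroup.map_bot] at h2
    rw [inf_comm]
    exact h2.symm
  have hOn : (pCore p H).Normal := Lib.Cores.pCore_normal p
  have h3 : (x : G) ∈ Subgroup.centralizer (N : Set G) := by
    rw [Subgroup.mem_centralizer_iff]
    intro y hy
    have h4 := Subgroup.commute_of_normal_of_disjoint _ _ hOn hN' hI x ⟨y, hNH hy⟩ h1
      (Subgroup.mem_subgroupOf.mpr hy)
    have h5 := congrArg Subtype.val h4.eq
    exact h5.symm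
  rw [h.centralizer_eq hp3 hN, Subgroup.mem_bot] at h3
  apply hn
  exact commute_of_eq_one h3

end mn

/-! ### The blocks -/

section block

variable {p : ℕ} [hp : Fact p.Prime] {G : Type u} [Group G] [Finite G] {C D : Set G}

/-- The block generated by the conjugates of `S` under `T`. -/
theorem exists_block {M S T : Subgroup G} [hMn : M.Normal] (hSM : S ≤ M)
    (hMS : M ≤ Subgroup.normalizer (S : Set G))
    (hmin : ∀ T : Subgroup G, T ≤ S → T ≠ ⊥ → M ≤ Subgroup.normalizer (T : Set G) → T = S)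
    (hST : Subgroup.normalizer (S : Set G) ≤ T) :
    ∃ B : Subgroup G, S ≤ B ∧ B ≤ M ∧ T ≤ Subgroup.normalizer (B : Set G) ∧
      ∀ g : G, g ∉ T → ∀ x ∈ B, ∀ y ∈ B, Commute x (g * y * g⁻¹) := by
  classical
  let X : Set G := {x | ∃ t ∈ T, ∃ s ∈ S, x = t * s * t⁻¹}
  let B : Subgroup G := Subgroup.closure X
  have hTB : T ≤ Subgroup.normalizer (B : Set G) := by
    intro u hu
    refine Subgroup.mem_normalizer_fintype ?_
    intro x hx
    have hx' : x ∈ Subgroup.closure X := hx
    change u * x * u⁻¹ ∈ B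
    have h1 : Subgroup.closure X ≤ B.comap (MulAut.conj u).toMonoidHom := by
      rw [Subgroup.closure_le]
      rintro _ ⟨t, ht, s, hs, rfl⟩
      change MulAut.conj u (t * s * t⁻¹) ∈ B
      rw [MulAut.conj_apply]
      refine Subgroup.subset_closure ⟨u * t, mul_mem hu ht, s, hs, by group⟩
    exact h1 hx'
  have hBM : B ≤ M := by
    rw [Subgroup.closure_le]
    rintro _ ⟨t, -, s, hs, rfl⟩
    exact hMn.conj_mem s (hSM hs) t
  have hSB : S ≤ B := by
    intro s hs
    exact Subgroup.subset_closure ⟨1, one_mem T, s, hs, by simp⟩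
  have hcomm : ∀ g : G, g ∉ T → ∀ x ∈ B, ∀ y ∈ B, Commute x (g * y * g⁻¹) := by
    intro g hg
    have h0 : ∀ x ∈ X, ∀ y ∈ X, Commute x (g * y * g⁻¹) := by
      rintro _ ⟨t, ht, s, hs, rfl⟩ _ ⟨t', ht', s', hs', rfl⟩
      have ha : t⁻¹ * g * t' ∉ Subgroup.normalizer (S : Set G) := by
        intro hcon
        apply hg
        have h1 := hST hcon
        have h2 : g = t * (t⁻¹ * g * t') * t'⁻¹ := by group
        rw [h2]
        exact mul_mem (mul_mem ht h1) (inv_mem ht')
      have h1 := Red.commute_of_not_mem hSM hMS hmin ha hs hs'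
      have h2 := h1.map (MulAut.conj t).toMonoidHom
      simp only [MulEquiv.toMonoidHom_eq_coe, MonoidHom.coe_coe, MulAut.conj_apply] at h2
      have h3 : t * (t⁻¹ * g * t' * s' * (t⁻¹ * g * t')⁻¹) * t⁻¹ = g * (t' * s' * t'⁻¹) * g⁻¹ := by
        group
      rwa [h3] at h2
    have h1 : ∀ x ∈ B, ∀ y ∈ X, Commute x (g * y * g⁻¹) := by
      intro x hx y hy
      have h2 : B ≤ Subgroup.centralizer ({g * y * g⁻¹} : Set G) := by
        rw [Subgroup.closure_le]
        intro x hx
        rw [SetLike.mem_coe, Subgroup.mem_centralizer_singleton_iff]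
        exact (h0 x hx y hy).eq
      have h3 := h2 hx
      rw [Subgroup.mem_centralizer_singleton_iff] at h3
      exact h3
    intro x hx y hy
    have h2 : B ≤ (Subgroup.centralizer ({x} : Set G)).comap (MulAut.conj g).toMonoidHom := by
      rw [Subgroup.closure_le]
      intro y hy
      change MulAut.conj g y ∈ Subgroup.centralizer ({x} : Set G)
      rw [MulAut.conj_apply, Subgroup.mem_centralizer_singleton_iff]
      exact (h1 x hx y hy).eq.symm
    have h3 := h2 hy
    change MulAut.conj g y ∈ Subgroup.centralizer ({x} : Set G) at h3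
    rw [MulAut.conj_apply, Subgroup.mem_centralizer_singleton_iff] at h3
    exact h3.symm
  exact ⟨B, hSB, hBM, hTB, hcomm⟩

/-- Both classes move the blocks. -/
theorem card_sylow_of_out (hp3 : 3 ≤ p) (h : Hyp p C D) {M B T : Subgroup G} [hMn : M.Normal]
    (hTn : T.Normal) (hTco : IsCoatom T) (hMT : M ≤ T) (hBM : B ≤ M)
    (hTB : T ≤ Subgroup.normalizer (B : Set G))
    (hcomm : ∀ g : G, g ∉ T → ∀ x ∈ B, ∀ y ∈ B, Commute x (g * y * g⁻¹)) {c d : G}
    (hcC : c ∈ C) (hdD : d ∈ D) (hcT : c ∉ T) (hdT : d ∉ T) : Nat.card (Sylow p B) = 1 := by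
  have htop : T ⊔ Subgroup.zpowers c = ⊤ := by
    refine hTco.2 _ (lt_of_le_of_ne le_sup_left ?_)
    intro heq
    apply hcT
    rw [heq]
    exact (le_sup_right : Subgroup.zpowers c ≤ T ⊔ Subgroup.zpowers c) (Subgroup.mem_zpowers c)
  have hdtop : d ∈ T ⊔ Subgroup.zpowers c := by rw [htop]; exact Subgroup.mem_top d
  rw [Subgroup.mem_sup_of_normal_left] at hdtop
  obtain ⟨t, ht, z, hz, htz⟩ := hdtop
  obtain ⟨i, rfl⟩ := Subgroup.mem_zpowers_iff.mp hz
  set c' : G := c ^ i with hc'
  have hc'T : c' ∉ T := by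
    intro hcon
    apply hdT
    rw [← htz]
    exact mul_mem ht hcon
  have hc'2 : c' ^ 2 ∉ T := by
    intro hcon
    apply hc'T
    have h1 : IsPGroup p ↥(Subgroup.zpowers c) := (h.pair c hcC d hdD).to_le (by
      rw [Subgroup.zpowers_le]; exact Subgroup.subset_closure (by simp))
    have h2 : IsPGroup p ↥(Subgroup.zpowers c') := h1.to_le (by
      rw [Subgroup.zpowers_le]; exact Subgroup.zpow_mem_zpowers c i)
    obtain ⟨k, hk⟩ := IsPGroup.iff_card.mp h2
    rw [Nat.card_zpowers] at hk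
    have hodd : Odd (orderOf c') := by
      rw [hk]
      exact (((Fact.out : p.Prime).eq_two_or_odd').resolve_left (by omega)).pow
    obtain ⟨m, hm⟩ := hodd
    have h3 : c' = (c' ^ 2) ^ (m + 1) := by
      rw [← pow_mul]
      have : 2 * (m + 1) = orderOf c' + 1 := by rw [hm]; ring
      rw [this, pow_succ, pow_orderOf_eq_one, one_mul]
    rw [h3]
    exact pow_mem hcon _
  have ht₁ : c'⁻¹ * d ∈ T := by
    rw [← htz]
    have : c'⁻¹ * (t * c') = c'⁻¹ * t * c'⁻¹⁻¹ := by group
    rw [this]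
    exact hTn.conj_mem t ht _
  have ht₂ : (c' ^ 2)⁻¹ * d ^ 2 ∈ T := by
    have : (c' ^ 2)⁻¹ * d ^ 2 = c'⁻¹ * (c'⁻¹ * d) * c'⁻¹⁻¹ * (c'⁻¹ * d) := by
      rw [pow_two, pow_two]; group
    rw [this]
    exact mul_mem (hTn.conj_mem _ ht₁ _) ht₁
  refine Block.card_sylow_block (M := M) hBM (hMT.trans hTB) (c := c') (d := d) (hTB ht₁)
    (hTB ht₂) (hcomm c' hc'T) (hcomm _ hc'2) ?_
  intro n _
  refine (h.pair c hcC _ (h.conjD n d hdD)).to_le ?_
  rw [Subgroup.closure_le]
  rintro x (rfl | rfl)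
  · exact zpow_mem (Subgroup.subset_closure (by simp)) _
  · exact Subgroup.subset_closure (by simp)

/-- `C` moves the blocks, `D` does not. -/
theorem commute_of_in (h : Hyp p C D) {M B T : Subgroup G} [hMn : M.Normal]
    (h1 : pCore p G = ⊥) (h2 : pPrimeCore p G = ⊥)
    (hTn : T.Normal) (hMT : M ≤ T) (hBM : B ≤ M)
    (hTB : T ≤ Subgroup.normalizer (B : Set G))
    (hcomm : ∀ g : G, g ∉ T → ∀ x ∈ B, ∀ y ∈ B, Commute x (g * y * g⁻¹)) {c d : G}
    (hcC : c ∈ C) (hdD : d ∈ D) (hco : orderOf c = p) (hcT : c ∉ T) (hdT : d ∈ T) :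
    ∀ b ∈ B, Commute d b := by
  have hcp : c ^ p = 1 := by rw [← hco, pow_orderOf_eq_one]
  have hcj : ∀ j, 0 < j → j < p → c ^ j ∉ T := by
    intro j h0 hj hcon
    apply hcT
    have hcop : Nat.Coprime j (orderOf c) := by
      rw [hco]
      exact (Nat.coprime_of_lt_prime h0.ne' hj hp.out).symm
    obtain ⟨k, hk⟩ := exists_pow_eq_self_of_coprime hcop
    rw [← hk]
    exact pow_mem hcon k
  set Z : Subgroup G := Subgroup.centralizer (B : Set G) with hZ
  set E : Subgroup G := Subgroup.closure {x | ∃ j, 0 < j ∧ j < p ∧ x = c ^ j * d * (c ^ j)⁻¹} with hE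
  have hET : E ≤ T := by
    rw [hE, Subgroup.closure_le]
    rintro _ ⟨j, -, -, rfl⟩
    exact hTn.conj_mem d hdT _
  have hEp : IsPGroup p E := by
    refine (h.pair c hcC d hdD).to_le ?_
    rw [hE, Subgroup.closure_le]
    rintro _ ⟨j, -, -, rfl⟩
    have hc1 : c ∈ Subgroup.closure ({c, d} : Set G) := Subgroup.subset_closure (by simp)
    have hd1 : d ∈ Subgroup.closure ({c, d} : Set G) := Subgroup.subset_closure (by simp)
    exact mul_mem (mul_mem (pow_mem hc1 j) hd1) (inv_mem (pow_mem hc1 j))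
  have hdN : d ∈ Subgroup.normalizer (B : Set G) := hTB hdT
  have hu : ∀ s ∈ B, s⁻¹ * (d * s * d⁻¹) ∈ B := fun s hs =>
    mul_mem (inv_mem hs) ((Subgroup.mem_normalizer_iff.mp hdN s).mp hs)
  -- the conjugates of `d` under `B`
  have hkey : ∀ s ∈ B, s⁻¹ * d * s ∈ E ⊔ Z := by
    intro s hs
    have hc' : s * c * s⁻¹ ∈ C := h.conjC s c hcC
    have hc'p : (s * c * s⁻¹) ^ p = 1 := by rw [conj_pow, hcp]; simp
    have h3 := h.key hc' hdD hc'p
      (K₁ := (E ⊔ Z).map (MulAut.conj s).toMonoidHom) (fun j h0 hj => by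
        refine ⟨(c ^ j * (s⁻¹ * (d * s * d⁻¹)) * (c ^ j)⁻¹) * (c ^ j * d * (c ^ j)⁻¹), ?_, ?_⟩
        · refine mul_mem ((le_sup_right : Z ≤ E ⊔ Z) ?_) ((le_sup_left : E ≤ E ⊔ Z)
            (Subgroup.subset_closure ⟨j, h0, hj, rfl⟩))
          rw [hZ, Subgroup.mem_centralizer_iff]
          intro x hx
          exact (hcomm _ (hcj j h0 hj) x hx _ (hu s hs)).eq
        · simp only [MulEquiv.coe_toMonoidHom, MulAut.conj_apply]
          rw [conj_pow]
          group)
    obtain ⟨y, hy, hyd⟩ := h3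
    simp only [MulEquiv.coe_toMonoidHom, MulAut.conj_apply] at hyd
    have h4 : s⁻¹ * d * s = y := by rw [← hyd]; group
    rw [h4]
    exact hy
  set V : Subgroup G := Subgroup.closure {x | ∃ s ∈ B, x = s⁻¹ * d * s} with hV
  have hVE : V ≤ E ⊔ Z := by
    rw [hV, Subgroup.closure_le]
    rintro _ ⟨s, hs, rfl⟩
    exact hkey s hs
  have hEN : E ⊔ Z ≤ Subgroup.normalizer (B : Set G) :=
    sup_le (hET.trans hTB) (Subgroup.centralizer_le_normalizer _)
  have hBV : ∀ b ∈ B, ∀ x ∈ V, b * x * b⁻¹ ∈ V := by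
    intro b hb x hx
    induction hx using Subgroup.closure_induction with
    | mem x hx =>
      obtain ⟨s, hs, rfl⟩ := hx
      refine Subgroup.subset_closure ⟨s * b⁻¹, mul_mem hs (inv_mem hb), ?_⟩
      group
    | one => simp
    | mul x y _ _ hx hy =>
      have : b * (x * y) * b⁻¹ = (b * x * b⁻¹) * (b * y * b⁻¹) := by group
      rw [this]; exact mul_mem hx hy
    | inv x _ hx =>
      have : b * x⁻¹ * b⁻¹ = (b * x * b⁻¹)⁻¹ := by group
      rw [this]; exact inv_mem hx
  -- `W = V ∩ B` is nilpotent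
  let W : Subgroup B := V.subgroupOf B
  have hWn : W.Normal := by
    constructor
    rintro ⟨x, hx⟩ hxV ⟨b, hb⟩
    exact hBV b hb x hxV
  have hWnil : Group.IsNilpotent W := by
    let ι : W →* Subgroup.normalizer (B : Set G) :=
      (Subgroup.inclusion (Subgroup.le_normalizer (H := B))).comp W.subtype
    let f : W →* MulAut B := (Subgroup.normalizerMonoidHom B).comp ι
    have hr : IsPGroup p f.range := by
      have h3 : f.range ≤ ((E.subgroupOf (Subgroup.normalizer (B : Set G))).map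
          (Subgroup.normalizerMonoidHom B)) := by
        rintro _ ⟨w, rfl⟩
        have h4 : ((w : B) : G) ∈ E ⊔ Z := hVE w.2
        have h5 : Z ≤ Subgroup.normalizer (B : Set G) := Subgroup.centralizer_le_normalizer _
        have h6 : (Z.subgroupOf (Subgroup.normalizer (B : Set G))).Normal := by
          have := (Subgroup.normalizerMonoidHom_ker B)
          rw [hZ, ← this]
          infer_instance
        have h7 : (⟨((w : B) : G), hEN h4⟩ : Subgroup.normalizer (B : Set G)) ∈
            E.subgroupOf (Subgroup.normalizer (B : Set G)) ⊔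
              Z.subgroupOf (Subgroup.normalizer (B : Set G)) := by
          rw [← Subgroup.subgroupOf_sup (hET.trans hTB) h5]
          exact Subgroup.mem_subgroupOf.mpr h4
        rw [Subgroup.mem_sup_of_normal_right] at h7
        obtain ⟨e, he, z, hz, hez⟩ := h7
        refine ⟨e, he, ?_⟩
        have h8 : Subgroup.normalizerMonoidHom B z = 1 := by
          rw [← MonoidHom.mem_ker, Subgroup.normalizerMonoidHom_ker]
          exact hz
        have h9 : ι w = e * z := by
          rw [hez]; rfl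
        show _ = Subgroup.normalizerMonoidHom B (ι w)
        rw [h9, map_mul, h8, mul_one]
      refine IsPGroup.to_le ?_ h3
      exact (hEp.comap_of_injective _ (Subgroup.subtype_injective _)).map _
    have hn : Group.IsNilpotent f.range := hr.isNilpotent
    refine Subgroup.isNilpotent_of_ker_le_center f.rangeRestrict ?_
    intro w hw
    rw [MonoidHom.ker_rangeRestrict, MonoidHom.mem_ker] at hw
    have h3 : ι w ∈ (Subgroup.normalizerMonoidHom B).ker := hw
    rw [Subgroup.normalizerMonoidHom_ker] at h3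
    have h4 : ((w : B) : G) ∈ Subgroup.centralizer (B : Set G) := h3
    rw [Subgroup.mem_center_iff]
    intro y
    apply Subtype.ext
    apply Subtype.ext
    exact (Subgroup.mem_centralizer_iff.mp h4) ((y : B) : G) (y : B).2
  obtain ⟨h3, h4⟩ := cores_sub (p := p) h1 h2 hBM (hMT.trans hTB)
  have hW : W = ⊥ := eq_bot_of_nilpotent (p := p) h3 h4 hWn hWnil
  intro b hb
  have h5 : (⟨b⁻¹ * (d * b * d⁻¹), hu b hb⟩ : B) ∈ W := by
    refine Subgroup.mem_subgroupOf.mpr ?_
    show b⁻¹ * (d * b * d⁻¹) ∈ V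
    have h6 : b⁻¹ * (d * b * d⁻¹) = (b⁻¹ * d * b) * ((1 : G)⁻¹ * d * 1)⁻¹ := by group
    rw [h6]
    exact mul_mem (Subgroup.subset_closure ⟨b, hb, rfl⟩)
      (inv_mem (Subgroup.subset_closure ⟨1, one_mem _, rfl⟩))
  rw [hW, Subgroup.mem_bot] at h5
  have h6 : b⁻¹ * (d * b * d⁻¹) = 1 := congrArg Subtype.val h5
  show d * b = b * d
  have h7 : d * b * d⁻¹ = b := by
    have := inv_mul_eq_one.mp h6
    exact this.symm
  rw [mul_inv_eq_iff_eq_mul] at h7
  exact h7

end block

/-! ### The end of the reduction -/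

section final

variable {p : ℕ} [hp : Fact p.Prime] {G : Type u} [Group G] [Finite G] {C D : Set G}

theorem Bs.false_of_in (hp3 : 3 ≤ p) (h : Bs p C D) {M B T : Subgroup G} [hMn : M.Normal]
    (hTn : T.Normal) (hMT : M ≤ T) (hBM : B ≤ M)
    (hTB : T ≤ Subgroup.normalizer (B : Set G))
    (hcomm : ∀ g : G, g ∉ T → ∀ x ∈ B, ∀ y ∈ B, Commute x (g * y * g⁻¹)) (hB : B ≠ ⊥) {c d : G}
    (hc : c ∈ C) (hd : d ∈ D) (hcT : c ∉ T) (hdT : d ∈ T) : False := by
  have hall : ∀ d' ∈ D, ∀ b ∈ B, Commute d' b := by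
    intro d' hd'
    refine commute_of_in h.toHyp h.core (h.pPrimeCore_eq hp3) hTn hMT hBM hTB hcomm hc hd'
      (h.ordC c hc) hcT ?_
    obtain ⟨g, hg⟩ := isConj_iff.mp (h.clD d hd d' hd')
    rw [← hg]
    exact hTn.conj_mem d hdT g
  have hDn : (Subgroup.closure D).Normal := by
    constructor
    intro x hx g
    induction hx using Subgroup.closure_induction with
    | mem x hx => exact Subgroup.subset_closure (h.conjD g x hx)
    | one => simp
    | mul x y _ _ hx hy =>
      have : g * (x * y) * g⁻¹ = (g * x * g⁻¹) * (g * y * g⁻¹) := by group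
      rw [this]; exact mul_mem hx hy
    | inv x _ hx =>
      have : g * x⁻¹ * g⁻¹ = (g * x * g⁻¹)⁻¹ := by group
      rw [this]; exact inv_mem hx
  have hAn : (Subgroup.centralizer ((Subgroup.closure D : Subgroup G) : Set G)).Normal :=
    inferInstance
  have hBA : B ≤ Subgroup.centralizer ((Subgroup.closure D : Subgroup G) : Set G) := by
    intro b hb
    rw [Subgroup.centralizer_closure, Subgroup.mem_centralizer_iff]
    intro d' hd'
    exact (hall d' hd' b hb).eq
  have hA : Subgroup.centralizer ((Subgroup.closure D : Subgroup G) : Set G) ≠ ⊥ := by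
    intro h0
    rw [h0] at hBA
    exact hB (le_bot_iff.mp hBA)
  apply h.not_com
  refine h.com_of_centralizes hA ?_
  have hcc : Subgroup.closure D ≤ Subgroup.centralizer
      ((Subgroup.centralizer ((Subgroup.closure D : Subgroup G) : Set G) : Subgroup G) : Set G) := by
    intro x hx
    rw [Subgroup.mem_centralizer_iff]
    intro y hy
    exact (Subgroup.mem_centralizer_iff.mp hy x hx).symm
  refine le_trans ?_ hcc
  rw [comms, Subgroup.closure_le]
  rintro _ ⟨c, hc, d, hd, rfl⟩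
  have h1 : c⁻¹ * d⁻¹ * c * d = (c⁻¹ * d * c)⁻¹ * d := by group
  rw [h1]
  exact mul_mem (inv_mem (Subgroup.subset_closure (h.toHyp.conjD' c hd))) (Subgroup.subset_closure hd)

/-- **The base configurations do not exist** if all rows hold. -/
theorem Bs.elim (hp3 : 3 ≤ p)
    (row : ∀ (K : Type u) [Group K] [Finite K] [IsSimpleGroup K], ¬ IsMulCommutative K →
      p ∣ Nat.card K → WfRow.{u, u} p K) (h : Bs p C D) : False := by
  obtain ⟨c, hc, d, hd, hn⟩ := h.ne
  have hnt : Nontrivial G := by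
    refine ⟨c, 1, ?_⟩
    rintro rfl
    exact hn (Commute.one_left d)
  have hP' := h.pPrimeCore_eq hp3
  obtain ⟨M, hMn, hM1, hMmin⟩ := Red.exists_minimal_normal (G := G)
  obtain ⟨S, hSM, hS1, hMS, hSmin⟩ := Red.exists_minimal_normalized M hM1
  by_cases hS : Subgroup.normalizer (S : Set G) = ⊤
  · have hSn : S.Normal := Subgroup.normalizer_eq_top_iff.mp hS
    have hSeq : S = M := hMmin S hSn hSM hS1
    subst hSeq
    have hntS : Nontrivial S := (Subgroup.nontrivial_iff_ne_bot S).mpr hS1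
    have hsimple : IsSimpleGroup S := by
      refine ⟨fun H hH => ?_⟩
      by_cases hb : H = ⊥
      · exact Or.inl hb
      · right
        have h1 := hSmin (H.map S.subtype) (Subgroup.map_subtype_le H)
          (by rw [Ne, Subgroup.map_eq_bot_iff_of_injective _ S.subtype_injective]; exact hb) (by
            intro m hm
            refine Subgroup.mem_normalizer_fintype ?_
            rintro _ ⟨x, hx, rfl⟩
            exact ⟨⟨m, hm⟩ * x * ⟨m, hm⟩⁻¹, hH.conj_mem x hx ⟨m, hm⟩, by simp⟩)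
        rw [eq_top_iff]
        intro x _
        have h2 : (x : G) ∈ H.map S.subtype := by rw [h1]; exact x.2
        obtain ⟨y, hy, hyx⟩ := h2
        have : y = x := Subtype.ext hyx
        rwa [← this]
    have hna : ¬ IsMulCommutative S := by
      intro hcomm
      let _ : CommGroup S := { (inferInstance : Group S) with
        mul_comm := hcomm.is_comm.comm }
      exact hS1 (eq_bot_of_nilpotent (p := p) h.core hP' hSn CommGroup.isNilpotent)
    have hdvd : p ∣ Nat.card S := by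
      by_contra hcon
      have := Lib.Cores.le_pPrimeCore (p := p) hSn
        ((Nat.Prime.coprime_iff_not_dvd hp.out).mpr hcon).symm
      rw [hP'] at this
      exact hS1 (le_bot_iff.mp this)
    refine row S hna hdvd G S C D ?_ ⟨MulEquiv.refl _⟩
    exact
      { toHyp := h.toHyp
        ordC := h.ordC
        ordD := h.ordD
        neC := ⟨c, hc⟩
        neD := ⟨d, hd⟩
        normal := hSn
        simple := hsimple
        nc := hna
        dvd := hdvd
        cent := h.centralizer_eq hp3 hS1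
        ih := h.ih }
  · obtain ⟨T, hTco, hST⟩ :=
      (eq_top_or_exists_le_coatom (Subgroup.normalizer (S : Set G))).resolve_left hS
    have hMT : M ≤ T := hMS.trans hST
    have hsup := h.sup_eq_top hp3 (N := M) hM1 hc hd hn
    have hQ : IsPGroup p (G ⧸ M) := by
      refine (h.pair c hc d hd).of_surjective
        ((QuotientGroup.mk' M).comp (Subgroup.closure ({c, d} : Set G)).subtype) ?_
      intro q
      obtain ⟨g, rfl⟩ := QuotientGroup.mk'_surjective M q
      have hg : g ∈ M ⊔ Subgroup.closure ({c, d} : Set G) := by rw [hsup]; exact Subgroup.mem_top g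
      rw [Subgroup.mem_sup_of_normal_left] at hg
      obtain ⟨m, hm, x, hx, rfl⟩ := hg
      refine ⟨⟨x, hx⟩, ?_⟩
      have h1 : QuotientGroup.mk' M m = 1 := (QuotientGroup.eq_one_iff m).mpr hm
      rw [map_mul, h1, one_mul]
      rfl
    have hTn : T.Normal := Red.normal_of_coatom hQ hMT hTco
    obtain ⟨B, hSB, hBM, hTB, hcomm⟩ := exists_block hSM hMS hSmin hST
    have hB1 : B ≠ ⊥ := fun hB => hS1 (le_bot_iff.mp (hB ▸ hSB))
    by_cases hcT : c ∈ T
    · by_cases hdT : d ∈ T
      · apply hTco.1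
        rw [eq_top_iff, ← hsup]
        refine sup_le hMT ?_
        rw [Subgroup.closure_le]
        rintro x (rfl | rfl)
        · exact hcT
        · exact hdT
      · exact h.symm.false_of_in hp3 hTn hMT hBM hTB hcomm hB1 hd hc hdT hcT
    · by_cases hdT : d ∈ T
      · exact h.false_of_in hp3 hTn hMT hBM hTB hcomm hB1 hc hd hcT hdT
      · exact Red.card_sylow_ne_one (p := p) h.core hP' hBM (hMT.trans hTB) hB1
          (card_sylow_of_out hp3 h.toHyp hTn hTco hMT hBM hTB hcomm hc hd hcT hdT)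

/-- The case `p = 2`. -/
theorem Bs.elim_two (h : Bs 2 C D) : False := by
  classical
  obtain ⟨c, hc, d, hd, hn⟩ := h.ne
  have : Fact (Nat.Prime 2) := ⟨Nat.prime_two⟩
  apply hn
  have hc2 : c ^ 2 = 1 := by rw [← h.ordC c hc, pow_orderOf_eq_one]
  have hd2 : d ^ 2 = 1 := by rw [← h.ordD d hd, pow_orderOf_eq_one]
  have h1 := h.toHyp.key hc hd hc2 (K₁ := Subgroup.zpowers (c * d * c⁻¹)) (fun j h0 hj => by
    have : j = 1 := by omega
    subst this
    rw [pow_one]
    exact Subgroup.mem_zpowers _)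
  have hx2 : (c * d * c⁻¹) ^ 2 = 1 := by rw [conj_pow, hd2]; simp
  rw [mem_zpowers_iff_mem_range_orderOf] at h1
  obtain ⟨k, hk, hkd⟩ := Finset.mem_image.mp h1
  have hord : orderOf (c * d * c⁻¹) ≤ 2 := orderOf_le_of_pow_eq_one (by norm_num) hx2
  have hk2 : k = 0 ∨ k = 1 := by
    have := Finset.mem_range.mp hk
    omega
  rcases hk2 with rfl | rfl
  · rw [pow_zero] at hkd
    rw [← hkd]
    exact Commute.one_right c
  · rw [pow_one] at hkd
    show c * d = d * c
    rw [mul_inv_eq_iff_eq_mul] at hkd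
    exact hkd

/-- **The reduction of S3826 to the rows**, `p` odd. -/
theorem thm_of_rows (hp3 : 3 ≤ p)
    (row : ∀ (K : Type u) [Group K] [Finite K] [IsSimpleGroup K], ¬ IsMulCommutative K →
      p ∣ Nat.card K → WfRow.{u, u} p K) (G : Type u) [Group G] [Finite G] : Thm p G :=
  thm_of_bs (fun _ _ _ _ _ h => h.elim hp3 row) _ G le_rfl

theorem thm_two (G : Type u) [Group G] [Finite G] : Thm 2 G :=
  have : Fact (Nat.Prime 2) := ⟨Nat.prime_two⟩
  thm_of_bs (fun _ _ _ _ _ h => h.elim_two) _ G le_rfl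

/-- The conclusion of S3826. -/
theorem closure_le_of_thm (hT : Thm p G) (C D : Set G)
    (hC : ∀ g : G, ∀ c ∈ C, g * c * g⁻¹ ∈ C) (hD : ∀ g : G, ∀ c ∈ D, g * c * g⁻¹ ∈ D)
    (h : ∀ c ∈ C, ∀ d ∈ D, IsPGroup p ↥(Subgroup.closure ({c, d} : Set G)) ∧
      ∀ W : Sylow p (Equiv.Perm (Fin (p ^ 2))),
        ¬ Cfsg.Involves ↥(W : Subgroup (Equiv.Perm (Fin (p ^ 2))))
          ↥(Subgroup.closure ({c, d} : Set G))) :
    Subgroup.closure {x : G | ∃ c ∈ C, ∃ d ∈ D, x = c⁻¹ * d⁻¹ * c * d} ≤ Cfsg.pCore p G := by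
  rw [Subgroup.closure_le]
  rintro _ ⟨c, hc, d, hd, rfl⟩
  exact hT C D ⟨hC, hD, fun c hc d hd => (h c hc d hd).1, fun c hc d hd => (h c hc d hd).2⟩ c hc d hd

/-- S3826 from the rows. -/
theorem s3826_of {p : ℕ} [hp : Fact p.Prime]
    (row : 3 ≤ p → ∀ (K : Type u) [Group K] [Finite K] [IsSimpleGroup K], ¬ IsMulCommutative K →
      p ∣ Nat.card K → WfRow.{u, u} p K) {G : Type u} [Group G] [Finite G] (C D : Set G)
    (hC : ∀ g : G, ∀ c ∈ C, g * c * g⁻¹ ∈ C) (hD : ∀ g : G, ∀ c ∈ D, g * c * g⁻¹ ∈ D)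
    (h : ∀ c ∈ C, ∀ d ∈ D, IsPGroup p ↥(Subgroup.closure ({c, d} : Set G)) ∧
      ∀ W : Sylow p (Equiv.Perm (Fin (p ^ 2))),
        ¬ Cfsg.Involves ↥(W : Subgroup (Equiv.Perm (Fin (p ^ 2))))
          ↥(Subgroup.closure ({c, d} : Set G))) :
    Subgroup.closure {x : G | ∃ c ∈ C, ∃ d ∈ D, x = c⁻¹ * d⁻¹ * c * d} ≤ Cfsg.pCore p G := by
  refine closure_le_of_thm ?_ C D hC hD h
  by_cases hp3 : 3 ≤ p
  · exact thm_of_rows hp3 (row hp3) G
  · have h2 : p = 2 := by
      have := hp.out.two_le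
      omega
    subst h2
    exact thm_two G

end final

end Cfsg.Agent.H533.Wf
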